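import Cfsg.Agent.H51.ShortRootU
import Cfsg.Agent.H43.Eichler
import Cfsg.Agent.H38.SpInSU

/-!
Overgroups in the special unitary group of an orthogonal group over the fixed field.
-/

set_option autoImplicit false
set_option linter.unusedSectionVars false

namespace H38.SUBundle

namespace OrthTen

open Matrix Cfsg H50 H51.StabMax H51.ShortU
open H38.SpSU (Rt rt_add rt_smul rt_sub rt_mulVec)
open scoped MatrixGroups

/-! ### Quadratic spaces -/

section quadratic

variable {k : Type*} [Field k] {W : Type*} [AddCommGroup W] [Module k W] [FiniteDimensional k W]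
  {Q : QuadraticForm k W}

/-- A singular vector orthogonal to a small subspace and not to a vector outside it. -/
theorem exists_singular_val [Finite k] (hQ : (H43.polB Q).Nondegenerate) (S : Submodule k W)
    (hS : 2 * Module.finrank k S + 3 ≤ Module.finrank k W) {v : W} (hv : v ∉ S) :
    ∃ y, Q y = 0 ∧ (∀ s ∈ S, H43.polB Q s y = 0) ∧ H43.polB Q v y ≠ 0 := by
  obtain ⟨C, hC⟩ := exists_isCompl S
  set U := (H43.polB Q).orthogonal S with hU
  have h1 := H43.finrank_orth_add hQ S
  rw [← hU] at h1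
  have h2 := Submodule.finrank_add_eq_of_isCompl hC
  have h3 := Submodule.finrank_sup_add_finrank_inf_eq U C
  have h4 := Submodule.finrank_le (U ⊔ C)
  obtain ⟨z₀, hz₀, hz0, hz⟩ := H43.exists_singular_in (Q := Q) (U ⊓ C) (by omega)
  have hzS : z₀ ∉ S := fun h => hz0 (Submodule.disjoint_def.1 hC.disjoint _ h (Submodule.mem_inf.1 hz₀).2)
  obtain ⟨y₀, hy₀, hzy⟩ := H43.exists_orth_polB_eq hQ hzS (1 : k)
  obtain ⟨w, hw, hvw⟩ := H43.exists_orth_polB_eq hQ hv (1 : k)
  by_contra hcon
  push Not at hcon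
  have hspan := H43.mem_span_singular (U := U) (Submodule.mem_inf.1 hz₀).1 hz hy₀
    (by rw [hzy]; exact one_ne_zero) (x := w) hw
  have hle : Submodule.span k {z : W | z ∈ U ∧ Q z = 0} ≤ LinearMap.ker (H43.polB Q v) := by
    rw [Submodule.span_le]
    rintro z ⟨hzU, hzQ⟩
    exact LinearMap.mem_ker.2 (hcon z hzQ hzU)
  exact one_ne_zero (hvw.symm.trans (LinearMap.mem_ker.1 (hle hspan)))

/-- A singular vector orthogonal to a small subspace and outside another one. -/
theorem exists_singular_out [Finite k] (hQ : (H43.polB Q).Nondegenerate) (S T : Submodule k W)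
    (hS : 2 * Module.finrank k S + 3 ≤ Module.finrank k W)
    (hT : Module.finrank k S + Module.finrank k T < Module.finrank k W) :
    ∃ y, Q y = 0 ∧ (∀ s ∈ S, H43.polB Q s y = 0) ∧ y ∉ T := by
  obtain ⟨v, hv, hvS⟩ : ∃ v ∈ (H43.polB Q).orthogonal T, v ∉ S := by
    by_contra h
    push Not at h
    have h1 := Submodule.finrank_mono h
    have := H43.finrank_orth_add hQ T
    omega
  obtain ⟨y, hy, hyS, hvy⟩ := exists_singular_val hQ S hS hvS
  exact ⟨y, hy, hyS, fun hyT => hvy (by rw [H43.polB_comm]; exact hv y hyT)⟩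

/-- A singular vector orthogonal to `S` outside a smaller subspace, also at the boundary dimension. -/
theorem exists_singular_out_two [Finite k] (hQ : (H43.polB Q).Nondegenerate) (h2 : (2 : k) ≠ 0)
    (S T : Submodule k W) (hS : 2 * Module.finrank k S + 2 ≤ Module.finrank k W)
    (hT : Module.finrank k T < Module.finrank k S) :
    ∃ y, Q y = 0 ∧ (∀ s ∈ S, H43.polB Q s y = 0) ∧ y ∉ T := by
  set U := (H43.polB Q).orthogonal S with hU
  have h1 := H43.finrank_orth_add hQ S
  rw [← hU] at h1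
  by_cases hA : ∃ z₀ ∈ U, Q z₀ = 0 ∧ z₀ ∉ S
  · obtain ⟨z₀, hz₀, hz, hzS⟩ := hA
    obtain ⟨y₀, hy₀, hzy⟩ := H43.exists_orth_polB_eq hQ hzS (1 : k)
    by_contra hcon
    push Not at hcon
    have hle : U ≤ T := by
      intro x hx
      have := H43.mem_span_singular (U := U) hz₀ hz hy₀ (by rw [hzy]; exact one_ne_zero) hx
      refine (Submodule.span_le.2 ?_) this
      rintro z ⟨hzU, hzQ⟩
      exact hcon z hzQ hzU
    have := Submodule.finrank_mono hle
    omega
  push Not at hA
  obtain ⟨C, hC⟩ := exists_isCompl (U ⊓ S)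
  have hC2 : Module.finrank k (U ⊓ C : Submodule k W) ≤ 2 := by
    by_contra h3
    obtain ⟨z, hz, hz0, hzQ⟩ := H43.exists_singular_in (Q := Q) (U ⊓ C) (by omega)
    exact hz0 (Submodule.disjoint_def.1 hC.disjoint z
      ⟨(Submodule.mem_inf.1 hz).1, hA z (Submodule.mem_inf.1 hz).1 hzQ⟩ (Submodule.mem_inf.1 hz).2)
  have h3 := Submodule.finrank_sup_add_finrank_inf_eq U C
  have h4 := Submodule.finrank_le (U ⊔ C)
  have h5 := Submodule.finrank_add_eq_of_isCompl hC
  have h6 : U ⊓ S = S := Submodule.eq_of_le_of_finrank_le inf_le_right (by omega)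
  obtain ⟨y, hy, hyT⟩ : ∃ y ∈ S, y ∉ T := by
    by_contra h
    push Not at h
    exact absurd (Submodule.finrank_mono h) (by omega)
  have hyU : ∀ s ∈ S, H43.polB Q s y = 0 := fun s hs => (h6.ge hy).1 s hs
  refine ⟨y, ?_, hyU, hyT⟩
  have := hyU y hy
  rw [H43.polB_self] at this
  exact (mul_eq_zero.1 this).resolve_left h2

theorem finrank_span_insert_le (a : W) (s : Set W) :
    Module.finrank k (Submodule.span k (insert a s)) ≤ Module.finrank k (Submodule.span k s) + 1 := by
  rw [Submodule.span_insert]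
  have h1 := Submodule.finrank_sup_add_finrank_inf_eq (k ∙ a) (Submodule.span k s)
  have h2 : Module.finrank k (k ∙ a) ≤ 1 := by
    rcases eq_or_ne a 0 with rfl | ha
    · rw [Submodule.span_zero_singleton, finrank_bot]; omega
    · rw [finrank_span_singleton ha]
  omega

theorem finrank_span_singleton_le (a : W) : Module.finrank k (k ∙ a) ≤ 1 := by
  rcases eq_or_ne a 0 with rfl | ha
  · rw [Submodule.span_zero_singleton, finrank_bot]; omega
  · rw [finrank_span_singleton ha]

end quadratic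

/-! ### Root elements with one parameter -/

variable {F : Type*} [Field F] {n q : ℕ}

local notation "V" => (Fin n → F)
local notation "hh" => Cfsg.hermForm n F q

/-- All short root elements of `(x, y)` with parameter `c` lie in `K`. -/
def Root (K : Subgroup (SU n F q)) (x y : V) (c : F) : Prop := ∀ A, IsSr x y c A → A ∈ K

/-- An orthogonal isotropic pair. -/
def IsPair (q : ℕ) (x y : Fin n → F) : Prop :=
  hermForm n F q x x = 0 ∧ hermForm n F q y y = 0 ∧ hermForm n F q x y = 0

section root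

variable [Fintype F] (hF : Fintype.card F = q ^ 2) {K : Subgroup (SU n F q)}
include hF

theorem root_swap {x y : V} {c : F} (h : Root K x y c) : Root K y x (-(c ^ q)) :=
  fun A hA => h A fun z => by
    rw [hA z, neg_pow_q hF, pow_q_pow_q hF]
    module

theorem root_scale {x y : V} {c b : F} (h : Root K x (b • y) c) : Root K x y (c * b ^ q) :=
  fun A hA => h A fun z => by
    rw [hA z, h_smul_right hF, mul_pow, pow_q_pow_q hF]
    module

theorem root_group {x y : V} {c : F} (h : Root K x y c) {g : SU n F q} (hg : g ∈ K) :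
    Root K (suMat g *ᵥ x) (suMat g *ᵥ y) c := fun A hA => by
  have h1 : g⁻¹ * A * g ∈ K := h _ fun z => by
    rw [suMat_mulVec_mul, suMat_mulVec_mul, hA, mulVec_sub, mulVec_add, mulVec_smul, mulVec_smul,
      suMat_inv_mulVec, suMat_inv_mulVec, suMat_inv_mulVec, suMat_h, suMat_h]
  have h2 := mul_mem (mul_mem hg h1) (inv_mem hg)
  rwa [show g * (g⁻¹ * A * g) * g⁻¹ = A by group] at h2

theorem root_add {x y : V} (hp : IsPair q x y) {c d : F} (hc : Root K x y c) (hd : Root K x y d) :
    Root K x y (c + d) := fun A hA => by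
  obtain ⟨hxx, hyy, hxy⟩ := hp
  obtain ⟨B, hB⟩ := exists_sr hF hxx hyy hxy c
  obtain ⟨C, hC⟩ := exists_sr hF hxx hyy hxy d
  have e : A = B * C := suMat_ext fun z => by
    rw [hA z, suMat_mulVec_mul, hC z, hB]
    simp only [h_add_left, h_sub_left, h_smul_left, hxx, hyy, hxy, (h_eq_zero_comm hF).1 hxy,
      add_pow_q hF]
    module
  exact e ▸ mul_mem (hc B hB) (hd C hC)

/-- The commutator of two short root elements. -/
theorem root_chain {x y w u : V} {c d : F} (hxy : IsPair q x y) (hwu : IsPair q w u)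
    (hxw : hh x w = 0) (hxu : hh x u = 0) (hyu : hh y u = 0) (h : Root K x y c) (h' : Root K w u d) :
    Root K x u (d * c * hh w y) := fun A hA => by
  obtain ⟨hxx, hyy, hxy⟩ := hxy
  obtain ⟨hww, huu, hwu⟩ := hwu
  obtain ⟨B, hB⟩ := exists_sr hF hxx hyy hxy c
  obtain ⟨C, hC⟩ := exists_sr hF hww huu hwu d
  have hwx := (h_eq_zero_comm hF).1 hxw
  have hux := (h_eq_zero_comm hF).1 hxu
  have huy := (h_eq_zero_comm hF).1 hyu
  have huw := (h_eq_zero_comm hF).1 hwu
  have hyx := (h_eq_zero_comm hF).1 hxy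
  have hyw : hh y w = hh w y ^ q := h_symm hF w y
  have e : B * C = C * A * B := suMat_ext fun z => by
    rw [suMat_mulVec_mul, suMat_mulVec_mul, suMat_mulVec_mul, hC z, hB, hB z, hA, hC]
    simp only [h_add_left, h_sub_left, h_smul_left, hxx, hyy, hxy, hyx, hww, huu, hwu, huw, hxw,
      hwx, hxu, hux, hyu, huy, hyw, mul_pow, pow_q_pow_q hF]
    module
  have : A = C⁻¹ * (B * C) * B⁻¹ := by rw [e]; group
  rw [this]
  exact mul_mem (mul_mem (inv_mem (h' C hC)) (mul_mem (h B hB) (h' C hC))) (inv_mem (h B hB))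

end root

/-! ### The rational structure -/

variable {F₀ : Subfield F} {P : GL (Fin n) F}

/-- The vector with given rational coordinates. -/
def ri (P : GL (Fin n) F) (u : Fin n → F₀) : Fin n → F :=
  (P : Matrix (Fin n) (Fin n) F) *ᵥ fun i => (u i : F)

theorem ri_add (u v : Fin n → F₀) : ri P (u + v) = ri P u + ri P v := by
  rw [ri, ri, ri, ← Matrix.mulVec_add]
  rfl

theorem ri_smul (c : F₀) (u : Fin n → F₀) : ri P (c • u) = (c : F) • ri P u := by
  rw [ri, ri, ← Matrix.mulVec_smul]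
  rfl

theorem ri_zero : ri P (0 : Fin n → F₀) = 0 := by
  rw [ri]
  exact Matrix.mulVec_zero _

theorem ri_sub (u v : Fin n → F₀) : ri P (u - v) = ri P u - ri P v := by
  rw [ri, ri, ri, ← Matrix.mulVec_sub]
  rfl

theorem ri_injective : Function.Injective (ri P : (Fin n → F₀) → Fin n → F) := fun u v h =>
  funext fun i => Subtype.ext (congrFun (H49.gl_mulVec_injective P h) i)

theorem rt_ri (u : Fin n → F₀) : Rt F₀ P (ri P u) := rt_mulVec fun i => (u i).2

theorem exists_ri_of_rt {v : V} (hv : Rt F₀ P v) : ∃ u : Fin n → F₀, v = ri P u :=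
  ⟨fun i => ⟨_, hv i⟩, (H49.gl_mulVec_inv P v).symm⟩

/-- All short root elements of two rational vectors. -/
def Full (P : GL (Fin n) F) (K : Subgroup (SU n F q)) (u v : Fin n → F₀) : Prop :=
  IsShort K (ri P u) (ri P v)

/-- The hypotheses of the orthogonal structure. -/
structure Setup (n q : ℕ) (F₀ : Subfield F) (P : GL (Fin n) F) (ζ : F) [Fintype F] : Prop where
  hF : Fintype.card F = q ^ 2
  card₀ : Nat.card F₀ = q
  hn : 10 ≤ n
  two : (2 : F) ≠ 0
  rat : ∀ u v : Fin n → F₀, hermForm n F q (ri P u) (ri P v) ∈ F₀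
  ne : ζ ≠ 0
  skew : ζ ^ q = -ζ

namespace Setup

variable [Fintype F] {ζ : F} (D : Setup n q F₀ P ζ)
include D

theorem fixed {x : F} (hx : x ∈ F₀) : x ^ q = x := by
  haveI : Fintype F₀ := Fintype.ofFinite _
  have h := FiniteField.pow_card (⟨x, hx⟩ : F₀)
  rw [← Nat.card_eq_fintype_card, D.card₀] at h
  exact congrArg Subtype.val h

theorem mem_of_fixed {x : F} (hx : x ^ q = x) : x ∈ F₀ := by
  have : (F₀ : Set F) = {x | x ^ q = x} := Set.eq_of_subset_of_ncard_le (fun y hy => D.fixed hy) (by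
    rw [← Nat.card_coe_set_eq, ← Nat.card_coe_set_eq]
    exact (card_fixed D.hF).le.trans D.card₀.ge) (Set.toFinite _)
  exact this.ge hx

theorem zeta_notMem : ζ ∉ F₀ := fun h => by
  have h1 := D.fixed h
  rw [D.skew] at h1
  have : (2 : F) * ζ = 0 := by linear_combination -h1
  exact D.ne ((mul_eq_zero.1 this).resolve_left D.two)

theorem sep {a b : F} (ha : a ∈ F₀) (hb : b ∈ F₀) (h : a + ζ * b = 0) : a = 0 ∧ b = 0 := by
  by_cases hb0 : b = 0
  · exact ⟨by rw [hb0, mul_zero, add_zero] at h; exact h, hb0⟩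
  · refine absurd ?_ D.zeta_notMem
    rw [show ζ = -a / b by rw [eq_div_iff hb0]; linear_combination h]
    exact div_mem (neg_mem ha) hb

theorem two_mem : (2 : F) ∈ F₀ := by
  rw [← one_add_one_eq_two]
  exact add_mem (one_mem _) (one_mem _)

theorem coords (x : F) : ∃ a b : F₀, x = a + ζ * b := by
  have h2 := D.two
  have hz := D.ne
  refine ⟨⟨(x + x ^ q) / 2, D.mem_of_fixed ?_⟩, ⟨(x - x ^ q) / (2 * ζ), D.mem_of_fixed ?_⟩, ?_⟩
  · rw [div_pow, trace_fixed D.hF, D.fixed (D.two_mem)]
  · rw [div_pow, mul_pow, D.skew, D.fixed (D.two_mem),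
      sub_eq_add_neg x, add_pow_q D.hF, neg_pow_q D.hF, pow_q_pow_q D.hF]
    field_simp
    ring
  · show x = (x + x ^ q) / 2 + ζ * ((x - x ^ q) / (2 * ζ))
    field_simp
    ring

theorem decomp (v : V) : ∃ u u' : Fin n → F₀, v = ri P u + ζ • ri P u' := by
  choose a b hab using fun i => D.coords ((((P⁻¹ : GL (Fin n) F) : Matrix (Fin n) (Fin n) F) *ᵥ v) i)
  refine ⟨a, b, ?_⟩
  rw [ri, ri, ← Matrix.mulVec_smul, ← Matrix.mulVec_add]
  conv_lhs => rw [← H49.gl_mulVec_inv P v]
  exact congrArg _ (funext fun i => hab i)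

theorem ri_sep {u u' : Fin n → F₀} (h : ri P u + ζ • ri P u' = 0) : u = 0 ∧ u' = 0 := by
  rw [ri, ri, ← Matrix.mulVec_smul, ← Matrix.mulVec_add] at h
  have h' := H49.gl_mulVec_injective P (h.trans (Matrix.mulVec_zero _).symm)
  exact ⟨funext fun i => Subtype.ext (D.sep (u i).2 (u' i).2 (congrFun h' i)).1,
    funext fun i => Subtype.ext (D.sep (u i).2 (u' i).2 (congrFun h' i)).2⟩

theorem symm (u v : Fin n → F₀) : hh (ri P v) (ri P u) = hh (ri P u) (ri P v) := by
  rw [h_symm D.hF (ri P u) (ri P v), D.fixed (D.rat u v)]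

theorem h_mixed (x u u' : Fin n → F₀) :
    hh (ri P x) (ri P u + ζ • ri P u') = hh (ri P x) (ri P u) + ζ * -hh (ri P x) (ri P u') := by
  rw [h_add_right D.hF, h_smul_right D.hF, D.skew]
  ring

theorem h_mixed_zero {x u u' : Fin n → F₀} (h1 : hh (ri P x) (ri P u) = 0)
    (h2 : hh (ri P x) (ri P u') = 0) : hh (ri P x) (ri P u + ζ • ri P u') = 0 := by
  rw [D.h_mixed, h1, h2, neg_zero, mul_zero, add_zero]

theorem h_mixed_zero' {x u u' : Fin n → F₀} (h1 : hh (ri P x) (ri P u) = 0)
    (h2 : hh (ri P x) (ri P u') = 0) : hh (ri P u + ζ • ri P u') (ri P x) = 0 :=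
  (h_eq_zero_comm D.hF).1 (D.h_mixed_zero h1 h2)

/-- The form on the rational structure. -/
noncomputable def form : LinearMap.BilinForm F₀ (Fin n → F₀) :=
  LinearMap.mk₂ F₀ (fun u v => (⟨hh (ri P u) (ri P v), D.rat u v⟩ : F₀))
    (fun u u' v => Subtype.ext (by simp [ri_add, h_add_left]))
    (fun c u v => Subtype.ext (by simp [ri_smul, h_smul_left]))
    (fun u v v' => Subtype.ext (by simp [ri_add, h_add_right D.hF]))
    (fun c u v => Subtype.ext (by simp [ri_smul, h_smul_right D.hF, D.fixed c.2]))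

/-- The quadratic form on the rational structure. -/
noncomputable def qf : QuadraticForm F₀ (Fin n → F₀) := D.form.toQuadraticMap

theorem qf_eq (u : Fin n → F₀) : ((D.qf u : F₀) : F) = hh (ri P u) (ri P u) := rfl

theorem qf_eq_zero {u : Fin n → F₀} : D.qf u = 0 ↔ hh (ri P u) (ri P u) = 0 := by
  rw [← D.qf_eq]
  exact Subtype.coe_injective.eq_iff.symm

theorem polB_eq (u v : Fin n → F₀) :
    ((H43.polB D.qf u v : F₀) : F) = 2 * hh (ri P u) (ri P v) := by
  rw [H43.polB_apply, qf, LinearMap.BilinMap.polar_toQuadraticMap]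
  show hh (ri P u) (ri P v) + hh (ri P v) (ri P u) = _
  rw [D.symm u v]
  ring

theorem polB_eq_zero {u v : Fin n → F₀} :
    H43.polB D.qf u v = 0 ↔ hh (ri P u) (ri P v) = 0 := by
  constructor
  · intro h
    have := D.polB_eq u v
    rw [h, ZeroMemClass.coe_zero] at this
    exact (mul_eq_zero.1 this.symm).resolve_left D.two
  · intro h
    apply Subtype.ext
    rw [D.polB_eq, h, mul_zero]
    rfl

theorem nondegenerate : (H43.polB D.qf).Nondegenerate := by
  have key : ∀ u, (∀ v, H43.polB D.qf u v = 0) → u = 0 := by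
    intro u hu
    apply ri_injective (P := P)
    rw [ri_zero]
    refine eq_zero_of_h_right D.hF fun v => ?_
    obtain ⟨x, x', rfl⟩ := D.decomp v
    exact D.h_mixed_zero' (D.polB_eq_zero.1 (hu x)) (D.polB_eq_zero.1 (hu x'))
  exact ⟨key, fun u hu => key u fun v => by rw [H43.polB_comm]; exact hu v⟩

theorem exists_val (S : Submodule F₀ (Fin n → F₀)) (hS : Module.finrank F₀ S ≤ 3)
    {v : Fin n → F₀} (hv : v ∉ S) :
    ∃ y : Fin n → F₀, hh (ri P y) (ri P y) = 0 ∧ (∀ s ∈ S, hh (ri P s) (ri P y) = 0) ∧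
      hh (ri P v) (ri P y) ≠ 0 := by
  haveI : Finite F₀ := inferInstance
  obtain ⟨y, h0, h1, h2⟩ := exists_singular_val D.nondegenerate S
    (by rw [Module.finrank_fin_fun]; have := D.hn; omega) hv
  exact ⟨y, D.qf_eq_zero.1 h0, fun s hs => D.polB_eq_zero.1 (h1 s hs),
    fun h => h2 (D.polB_eq_zero.2 h)⟩

theorem exists_out (S T : Submodule F₀ (Fin n → F₀)) (hS : Module.finrank F₀ S ≤ 3)
    (hT : Module.finrank F₀ T ≤ 4) :
    ∃ y : Fin n → F₀, hh (ri P y) (ri P y) = 0 ∧ (∀ s ∈ S, hh (ri P s) (ri P y) = 0) ∧ y ∉ T := by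
  obtain ⟨y, h0, h1, h2⟩ := exists_singular_out D.nondegenerate S T
    (by rw [Module.finrank_fin_fun]; have := D.hn; omega)
    (by rw [Module.finrank_fin_fun]; have := D.hn; omega)
  exact ⟨y, D.qf_eq_zero.1 h0, fun s hs => D.polB_eq_zero.1 (h1 s hs), h2⟩

/-- Four vectors against three. -/
theorem exists_out_four (S T : Submodule F₀ (Fin n → F₀)) (hS : Module.finrank F₀ S ≤ 4)
    (hT : Module.finrank F₀ T ≤ 3) :
    ∃ y : Fin n → F₀, hh (ri P y) (ri P y) = 0 ∧ (∀ s ∈ S, hh (ri P s) (ri P y) = 0) ∧ y ∉ T := by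
  by_cases h4 : Module.finrank F₀ S ≤ 3
  · exact D.exists_out S T h4 (by omega)
  haveI : Finite F₀ := inferInstance
  have h2 : (2 : F₀) ≠ 0 := fun h => D.two (by rw [← map_ofNat F₀.subtype 2, h, map_zero])
  obtain ⟨y, h0, h1, hy⟩ := exists_singular_out_two D.nondegenerate h2 S T
    (by rw [Module.finrank_fin_fun]; have := D.hn; omega) (by omega)
  exact ⟨y, D.qf_eq_zero.1 h0, fun s hs => D.polB_eq_zero.1 (h1 s hs), hy⟩

theorem mem_span_singular (u : Fin n → F₀) :
    u ∈ Submodule.span F₀ {z : Fin n → F₀ | hh (ri P z) (ri P z) = 0} := by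
  obtain ⟨y, h0, -, hy⟩ := D.exists_out ⊥ ⊥ (by simp) (by simp)
  have := H43.mem_span_all_singular D.nondegenerate (z₀ := y) (fun h => hy (by simp [h]))
    (D.qf_eq_zero.2 h0) u
  exact Submodule.span_mono (fun z hz => D.qf_eq_zero.1 hz) this

/-! ### Overgroups -/

variable {K : Subgroup (SU n F q)}
  (hK : ∀ A : SU n F q, (∀ v, Rt F₀ P v → Rt F₀ P (suMat A *ᵥ v)) → A ∈ K)
include hK

theorem root_rat (u v : Fin n → F₀) {c : F} (hc : c ∈ F₀) : Root K (ri P u) (ri P v) c :=
  fun A hA => hK A fun w hw => by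
    obtain ⟨x, rfl⟩ := exists_ri_of_rt hw
    rw [hA, D.fixed hc]
    exact rt_sub (rt_add (rt_ri x) (rt_smul (mul_mem hc (D.rat _ _)) (rt_ri u)))
      (rt_smul (mul_mem hc (D.rat _ _)) (rt_ri v))

omit hK in
theorem full_swap {u v : Fin n → F₀} (h : Full P K u v) : Full P K v u := short_swap D.hF h

theorem full_step {u v v' w : Fin n → F₀} (h : Full P K u v)
    (hwv' : IsPair q (ri P w) (ri P v')) (h1 : hh (ri P u) (ri P w) = 0)
    (h2 : hh (ri P u) (ri P v') = 0) (h3 : hh (ri P v) (ri P v') = 0)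
    (h4 : hh (ri P w) (ri P v) ≠ 0) : Full P K u v' := by
  refine ⟨h.1, hwv'.2.1, h2, fun A c hA => ?_⟩
  have := root_chain D.hF ⟨h.1, h.2.1, h.2.2.1⟩ hwv' h1 h2 h3
    (fun B hB => h.2.2.2 B (c / hh (ri P w) (ri P v)) hB) (D.root_rat hK w v' (one_mem _))
  rw [one_mul, div_mul_cancel₀ _ h4] at this
  exact this A hA

/-- The centres among the first vectors of full pairs. -/
theorem ctr_of_full {u v : Fin n → F₀} (h : Full P K u v) (hu : u ≠ 0)
    (hv : v ∉ Submodule.span F₀ {u}) :
    IsCtr K (ri P u) ∧ ∀ y, hh (ri P y) (ri P y) = 0 → hh (ri P u) (ri P y) = 0 →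
      y ∉ Submodule.span F₀ {u} → Full P K u y := by
  -- one step to a partner orthogonal to the old one
  have step : ∀ {v y : Fin n → F₀}, Full P K u v → v ∉ Submodule.span F₀ {u} →
      hh (ri P y) (ri P y) = 0 → hh (ri P u) (ri P y) = 0 → hh (ri P v) (ri P y) = 0 →
      v ∉ Submodule.span F₀ {u, y} → Full P K u y := by
    intro v y hf hv hy huy hvy hind
    obtain ⟨w, hw, hwo, hwv⟩ := D.exists_val (Submodule.span F₀ {u, y})
      ((finrank_span_insert_le _ _).trans (by have := finrank_span_singleton_le (k := F₀) y; omega))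
      hind
    refine D.full_step hK hf ⟨hw, hy, ?_⟩ (hwo u (Submodule.subset_span (by simp))) huy hvy ?_
    · rw [D.symm]; exact hwo y (Submodule.subset_span (by simp))
    · rwa [D.symm]
  -- any partner, through an auxiliary one
  have all : ∀ y, hh (ri P y) (ri P y) = 0 → hh (ri P u) (ri P y) = 0 →
      y ∉ Submodule.span F₀ {u} → Full P K u y := by
    intro y hy huy hyu
    obtain ⟨m, hm, hmo, hmn⟩ := D.exists_out (Submodule.span F₀ {u, v, y})
      (Submodule.span F₀ {u, v, y})
      ((finrank_span_insert_le _ _).trans (by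
        have := finrank_span_insert_le (k := F₀) v {y}
        have := finrank_span_singleton_le (k := F₀) y
        omega))
      ((finrank_span_insert_le _ _).trans (by
        have := finrank_span_insert_le (k := F₀) v {y}
        have := finrank_span_singleton_le (k := F₀) y
        omega))
    have hmu : m ∉ Submodule.span F₀ {u} := fun hh' =>
      hmn (Submodule.span_mono (by simp) hh')
    have e1 : v ∉ Submodule.span F₀ {u, m} := fun hc => by
      rw [Set.pair_comm] at hc
      exact hmn (Submodule.span_mono (by intro t; simp; tauto) (mem_span_insert_exchange hc hv))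
    have e2 : m ∉ Submodule.span F₀ {u, y} := fun hc =>
      hmn (Submodule.span_mono (by intro t; simp; tauto) hc)
    refine step (step h hv hm (hmo u (Submodule.subset_span (by simp)))
      (hmo v (Submodule.subset_span (by simp))) e1) hmu hy huy ?_ e2
    rw [D.symm]
    exact hmo y (Submodule.subset_span (by simp))
  refine ⟨?_, all⟩
  obtain ⟨y', hy', hyo, hvy⟩ := D.exists_val (Submodule.span F₀ {u})
    ((finrank_span_singleton_le u).trans (by omega)) hv
  refine short_ctr D.hF h (all y' hy' (hyo u (Submodule.mem_span_singleton_self u)) fun hc => ?_) hvy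
  obtain ⟨c, rfl⟩ := Submodule.mem_span_singleton.1 hc
  exact hvy (by rw [ri_smul, h_smul_right D.hF, (h_eq_zero_comm D.hF).1 h.2.2.1, mul_zero])

theorem ctr_all {u v : Fin n → F₀} (h : Full P K u v) (hu : u ≠ 0)
    (hv : v ∉ Submodule.span F₀ {u}) {w : Fin n → F₀} (hw : hh (ri P w) (ri P w) = 0) :
    IsCtr K (ri P w) := by
  rcases eq_or_ne w 0 with rfl | hw0
  · rw [ri_zero]; exact ctr_zero K
  have hS : Module.finrank F₀ (Submodule.span F₀ {u, w}) ≤ 3 :=
    (finrank_span_insert_le _ _).trans (by have := finrank_span_singleton_le (k := F₀) w; omega)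
  obtain ⟨y, hy, hyo, hyn⟩ := D.exists_out (Submodule.span F₀ {u, w}) (Submodule.span F₀ {u, w}) hS (hS.trans (by omega))
  have hyu : y ∉ Submodule.span F₀ {u} := fun hc => hyn (Submodule.span_mono (by simp) hc)
  have hyw : y ∉ Submodule.span F₀ {w} := fun hc => hyn (Submodule.span_mono (by simp) hc)
  have hy0 : y ≠ 0 := fun hc => hyn (hc ▸ zero_mem _)
  have key : ∀ {a b : Fin n → F₀}, a ≠ 0 → b ∉ Submodule.span F₀ {a} → a ∉ Submodule.span F₀ {b} := by
    intro a b ha hb hc
    obtain ⟨c, rfl⟩ := Submodule.mem_span_singleton.1 hc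
    rcases eq_or_ne c 0 with rfl | hc0
    · exact ha (zero_smul _ b)
    · exact hb (Submodule.mem_span_singleton.2 ⟨c⁻¹, by rw [smul_smul, inv_mul_cancel₀ hc0, one_smul]⟩)
  have f1 := (D.ctr_of_full hK h hu hv).2 y hy (hyo u (Submodule.subset_span (by simp))) hyu
  have f2 := (D.ctr_of_full hK (D.full_swap f1) hy0 (key hu hyu)).2 w hw
    (by rw [D.symm]; exact hyo w (Submodule.subset_span (by simp))) (key hw0 hyw)
  exact (D.ctr_of_full hK (D.full_swap f2) hw0 hyw).1

omit hK in
theorem line_of_dep {x y : Fin n → F₀} (h : y ∈ Submodule.span F₀ {x} ∨ x ∈ Submodule.span F₀ {y}) :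
    ∃ (l : F) (r : Fin n → F₀), ri P x + ζ • ri P y = l • ri P r := by
  rcases h with h | h <;> obtain ⟨c, rfl⟩ := Submodule.mem_span_singleton.1 h
  · exact ⟨1 + ζ * c, x, by rw [ri_smul]; module⟩
  · exact ⟨c + ζ, y, by rw [ri_smul]; module⟩

/-- A moved rational isotropic point gives a full pair. -/
theorem exists_full {g : SU n F q} (hg : g ∈ K) {a : Fin n → F₀} (haa : hh (ri P a) (ri P a) = 0)
    (hbad : ∀ (l : F) (r : Fin n → F₀), suMat g *ᵥ ri P a ≠ l • ri P r) :
    ∃ u v : Fin n → F₀, Full P K u v ∧ u ≠ 0 ∧ v ∉ Submodule.span F₀ {u} := by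
  obtain ⟨r1, r2, hz⟩ := D.decomp (suMat g *ᵥ ri P a)
  set z := ri P r1 + ζ • ri P r2 with hzdef
  have hzz : hh z z = 0 := by rw [← hz, suMat_h, haa]
  have h12 : r1 ∉ Submodule.span F₀ {r2} := fun h => by
    obtain ⟨l, r, e⟩ := D.line_of_dep (P := P) (ζ := ζ) (x := r1) (y := r2) (Or.inr h)
    exact hbad l r (hz.trans e)
  have h21 : r2 ∉ Submodule.span F₀ {r1} := fun h => by
    obtain ⟨l, r, e⟩ := D.line_of_dep (P := P) (ζ := ζ) (x := r1) (y := r2) (Or.inl h)
    exact hbad l r (hz.trans e)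
  have hR : Module.finrank F₀ (Submodule.span F₀ {r1, r2}) ≤ 2 :=
    (finrank_span_insert_le _ _).trans (by have := finrank_span_singleton_le (k := F₀) r2; omega)
  -- a second vector leaving the plane of the first image
  obtain ⟨a', ha', haa', s1, s2, hz', s, hs, hsR⟩ : ∃ a', hh (ri P a') (ri P a') = 0 ∧
      hh (ri P a) (ri P a') = 0 ∧ ∃ s1 s2, suMat g *ᵥ ri P a' = ri P s1 + ζ • ri P s2 ∧
      ∃ s, (s = s1 ∨ s = s2) ∧ s ∉ Submodule.span F₀ {r1, r2} := by
    by_contra hcon
    push Not at hcon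
    obtain ⟨w, hw, hwo, hwn⟩ := D.exists_out (Submodule.span F₀ {r1, r2}) (Submodule.span F₀ {r1, r2})
      (hR.trans (by omega)) (hR.trans (by omega))
    obtain ⟨x1, x2, hx⟩ := D.decomp (suMat g⁻¹ *ᵥ ri P w)
    have hin : ∀ x, (x = x1 ∨ x = x2) → x ∈ Submodule.span F₀ {a} := by
      intro x hx'
      by_contra hxa
      obtain ⟨a', ha', hao, hxa'⟩ := D.exists_val (Submodule.span F₀ {a})
        ((finrank_span_singleton_le a).trans (by omega)) hxa
      obtain ⟨s1, s2, hs⟩ := D.decomp (suMat g *ᵥ ri P a')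
      have h1 := hcon a' ha' (hao a (Submodule.mem_span_singleton_self a)) s1 s2 hs
      have h2 : hh (ri P w) (suMat g *ᵥ ri P a') = 0 := by
        rw [hs]
        refine D.h_mixed_zero ?_ ?_
        · rw [D.symm]; exact hwo _ (h1 s1 (Or.inl rfl))
        · rw [D.symm]; exact hwo _ (h1 s2 (Or.inr rfl))
      have h3 : hh (ri P x1 + ζ • ri P x2) (ri P a') = 0 := by
        rw [← hx]
        have := suMat_h g (suMat g⁻¹ *ᵥ ri P w) (ri P a')
        rwa [suMat_mulVec_inv, h2, eq_comm] at this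
      rw [h_add_left, h_smul_left] at h3
      obtain ⟨e1, e2⟩ := D.sep (D.rat _ _) (D.rat _ _) h3
      rcases hx' with rfl | rfl
      exacts [hxa' e1, hxa' e2]
    obtain ⟨c1, hc1⟩ := Submodule.mem_span_singleton.1 (hin x1 (Or.inl rfl))
    obtain ⟨c2, hc2⟩ := Submodule.mem_span_singleton.1 (hin x2 (Or.inr rfl))
    have e : suMat g⁻¹ *ᵥ ri P w = ((c1 : F) + ζ * c2) • ri P a := by
      rw [hx, ← hc1, ← hc2, ri_smul, ri_smul]; module
    have e' : ri P w = ((c1 : F) + ζ * c2) • (suMat g *ᵥ ri P a) := by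
      rw [← Matrix.mulVec_smul, ← e, suMat_mulVec_inv]
    rcases eq_or_ne ((c1 : F) + ζ * c2) 0 with h0 | h0
    · rw [h0, zero_smul] at e'
      exact hwn (by rw [ri_injective (e'.trans ri_zero.symm)]; exact zero_mem _)
    · exact hbad ((c1 : F) + ζ * c2)⁻¹ w (by rw [e', smul_smul, inv_mul_cancel₀ h0, one_smul])
  set z' := ri P s1 + ζ • ri P s2 with hz'def
  have hpz : IsPair q z z' := ⟨hzz, by rw [← hz', suMat_h, ha'], by rw [← hz, ← hz', suMat_h, haa']⟩
  have hroot : Root K z z' 1 := by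
    rw [← hz, ← hz']
    exact root_group D.hF (D.root_rat hK a a' (one_mem _)) hg
  obtain ⟨u, hu, huo, hun⟩ := D.exists_out_four (Submodule.span F₀ {r1, r2, s1, s2})
    (Submodule.span F₀ (insert s {r1, r2}))
    ((finrank_span_insert_le _ _).trans (by
      have := finrank_span_insert_le (k := F₀) r2 {s1, s2}
      have := finrank_span_insert_le (k := F₀) s1 {s2}
      have := finrank_span_singleton_le (k := F₀) s2
      omega))
    ((finrank_span_insert_le _ _).trans (by omega))
  have hu0 : u ≠ 0 := fun h => hun (h ▸ zero_mem _)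
  have hunR : u ∉ Submodule.span F₀ {r1, r2} := fun h =>
    hun (Submodule.span_mono (Set.subset_insert _ _) h)
  have hsU : s ∉ Submodule.span F₀ (insert u {r1, r2}) := fun h =>
    hun (mem_span_insert_exchange h hsR)
  obtain ⟨w, hw, hwo, hsw⟩ := D.exists_val (Submodule.span F₀ (insert u {r1, r2}))
    ((finrank_span_insert_le _ _).trans (by omega)) hsU
  have hur : ∀ t ∈ ({r1, r2, s1, s2} : Set (Fin n → F₀)), hh (ri P u) (ri P t) = 0 := fun t ht => by
    rw [D.symm]; exact huo t (Submodule.subset_span ht)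
  have hwu : hh (ri P w) (ri P u) = 0 := by
    rw [D.symm]; exact hwo u (Submodule.subset_span (by simp))
  have hwr : ∀ t ∈ ({r1, r2} : Set (Fin n → F₀)), hh (ri P w) (ri P t) = 0 := fun t ht => by
    rw [D.symm]; exact hwo t (Submodule.subset_span (Set.mem_insert_of_mem _ ht))
  have hzu : hh z (ri P u) = 0 := D.h_mixed_zero' (hur r1 (by simp)) (hur r2 (by simp))
  have h1 := root_chain D.hF hpz ⟨hw, hu, hwu⟩ (D.h_mixed_zero' (hwr r1 (by simp)) (hwr r2 (by simp)))
    hzu (D.h_mixed_zero' (hur s1 (by simp)) (hur s2 (by simp))) hroot (D.root_rat hK w u (one_mem _))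
  have hk : hh (ri P w) z' ≠ 0 := fun h => by
    rw [hz'def, D.h_mixed] at h
    obtain ⟨e1, e2⟩ := D.sep (D.rat _ _) (neg_mem (D.rat _ _)) h
    rw [neg_eq_zero] at e2
    rcases hs with rfl | rfl
    exacts [hsw (by rw [D.symm]; exact e1), hsw (by rw [D.symm]; exact e2)]
  rw [one_mul, one_mul] at h1
  have h2 := root_swap D.hF h1
  generalize hκ : -(hh (ri P w) z' ^ q) = κ at h2
  have hκ0 : κ ≠ 0 := by rw [← hκ]; exact neg_ne_zero.2 (pow_ne_zero _ hk)
  -- the second rational pair
  obtain ⟨u', hu', hu'o, hu'n⟩ := D.exists_out (Submodule.span F₀ (insert u {r1, r2}))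
    (Submodule.span F₀ (insert u {r1, r2}))
    ((finrank_span_insert_le _ _).trans (by omega)) ((finrank_span_insert_le _ _).trans (by omega))
  have huu' : hh (ri P u) (ri P u') = 0 := hu'o u (Submodule.subset_span (by simp))
  have hu'v : u' ∉ Submodule.span F₀ {u} := fun h =>
    hu'n (Submodule.span_mono (by simp) h)
  have hzu' : hh z (ri P u') = 0 := D.h_mixed_zero'
    (by rw [D.symm]; exact hu'o r1 (Submodule.subset_span (by simp)))
    (by rw [D.symm]; exact hu'o r2 (Submodule.subset_span (by simp)))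
  have hmk : ∀ {p o : Fin n → F₀}, p ∈ ({r1, r2} : Set (Fin n → F₀)) →
      o ∈ ({r1, r2} : Set (Fin n → F₀)) → p ∉ Submodule.span F₀ {o} →
      ∃ w' : Fin n → F₀, hh (ri P w') (ri P p) ≠ 0 ∧ hh (ri P w') (ri P o) = 0 ∧
        ∀ b : F₀, Root K (ri P u) (ri P u') (κ * hh (ri P w') z * b) := by
    intro p o hp ho hpo
    have hpu : p ∉ Submodule.span F₀ (insert u {o}) := fun h => hunR (by
      refine Submodule.span_mono ?_ (mem_span_insert_exchange h hpo)
      exact Set.insert_subset hp (Set.singleton_subset_iff.2 ho))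
    have hpu' : p ∉ Submodule.span F₀ (insert u' (insert u {o})) := fun h => hu'n (by
      refine Submodule.span_mono ?_ (mem_span_insert_exchange h hpu)
      exact Set.insert_subset (Set.mem_insert_of_mem _ hp)
        (Set.insert_subset_insert (Set.singleton_subset_iff.2 ho)))
    obtain ⟨w', hw', hwo', hpw⟩ := D.exists_val (Submodule.span F₀ (insert u' (insert u {o})))
      ((finrank_span_insert_le _ _).trans (by
        have := finrank_span_insert_le (k := F₀) u {o}
        have := finrank_span_singleton_le (k := F₀) o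
        omega)) hpu'
    refine ⟨w', by rwa [D.symm], by rw [D.symm]; exact hwo' o (Submodule.subset_span (by simp)), fun b => ?_⟩
    have hp' : IsPair q (ri P w') (ri P (b • u')) := by
      refine ⟨hw', ?_, ?_⟩
      · rw [ri_smul, h_smul_left, h_smul_right D.hF, hu', mul_zero, mul_zero]
      · rw [ri_smul, h_smul_right D.hF, D.symm, hwo' u' (Submodule.subset_span (by simp)), mul_zero]
    have h3 := root_chain D.hF ⟨hu, hzz, (h_eq_zero_comm D.hF).1 hzu⟩ hp'
      (hwo' u (Submodule.subset_span (by simp)))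
      (by rw [ri_smul, h_smul_right D.hF, huu', mul_zero])
      (by rw [ri_smul, h_smul_right D.hF, hzu', mul_zero]) h2 (D.root_rat hK w' (b • u') (one_mem _))
    rw [ri_smul] at h3
    have h4 := root_scale D.hF h3
    rwa [D.fixed b.2, one_mul] at h4
  obtain ⟨w1, w1p, w1o, h31⟩ := hmk (p := r1) (o := r2) (by simp) (by simp) h12
  obtain ⟨w2, w2p, w2o, h32⟩ := hmk (p := r2) (o := r1) (by simp) (by simp) h21
  rw [hzdef, D.h_mixed, w1o, neg_zero, mul_zero, add_zero] at h31
  rw [hzdef, D.h_mixed, w2o, zero_add] at h32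
  obtain ⟨e, he, hroots⟩ : ∃ e : F, e ∉ F₀ ∧ ∀ b : F₀, Root K (ri P u) (ri P u') (e * b) := by
    by_contra hcon
    push Not at hcon
    obtain ⟨_, hb1⟩ : True ∧ κ * hh (ri P w1) (ri P r1) ∈ F₀ := ⟨trivial, by
      by_contra hc
      obtain ⟨b, hb⟩ := hcon _ hc
      exact hb (h31 b)⟩
    obtain ⟨_, hb2⟩ : True ∧ κ * (ζ * -hh (ri P w2) (ri P r2)) ∈ F₀ := ⟨trivial, by
      by_contra hc
      obtain ⟨b, hb⟩ := hcon _ hc
      exact hb (h32 b)⟩
    apply D.zeta_notMem
    have key : ζ = κ * (ζ * -hh (ri P w2) (ri P r2)) / (κ * hh (ri P w1) (ri P r1)) *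
        (hh (ri P w1) (ri P r1) / -hh (ri P w2) (ri P r2)) := by
      field_simp
    rw [key]
    exact mul_mem (div_mem hb2 hb1) (div_mem (D.rat _ _) (neg_mem (D.rat _ _)))
  refine ⟨u, u', ⟨hu, hu', huu', fun A c hA => ?_⟩, hu0, hu'v⟩
  obtain ⟨c0, c1, hc⟩ := D.coords c
  obtain ⟨e0, e1, hee⟩ := D.coords e
  have he1 : (e1 : F) ≠ 0 := fun h => he (by rw [hee, h, mul_zero, add_zero]; exact e0.2)
  have hsum : ((c0 - c1 / e1 * e0 : F₀) : F) + e * ((c1 / e1 : F₀) : F) = c := by
    push_cast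
    rw [hc, hee]
    field_simp
    ring
  exact root_add D.hF ⟨hu, hu', huu'⟩ (D.root_rat hK u u' (c0 - c1 / e1 * e0 : F₀).2)
    (hroots (c1 / e1)) A (hsum.symm ▸ hA)

omit hK in
/-- With all rational isotropic vectors as centres, every isotropic vector is one. -/
theorem ctr_isotropic (hc : ∀ w : Fin n → F₀, hh (ri P w) (ri P w) = 0 → IsCtr K (ri P w)) {z : V}
    (hz : hh z z = 0) : IsCtr K z := by
  obtain ⟨r1, r2, rfl⟩ := D.decomp z
  by_cases hd : r2 ∈ Submodule.span F₀ {r1} ∨ r1 ∈ Submodule.span F₀ {r2}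
  · obtain ⟨l, r, e⟩ := D.line_of_dep (P := P) (ζ := ζ) hd
    rw [e] at hz ⊢
    rcases eq_or_ne l 0 with rfl | hl
    · rw [zero_smul]; exact ctr_zero K
    · rw [h_smul_left, h_smul_right D.hF] at hz
      exact ctr_smul D.hF (hc r ((mul_eq_zero.1 ((mul_eq_zero.1 hz).resolve_left hl)).resolve_left
        (pow_ne_zero _ hl))) l
  push Not at hd
  obtain ⟨h21, h12⟩ := hd
  have hz' : hh (ri P r1) (ri P r1) - ζ ^ 2 * hh (ri P r2) (ri P r2) = 0 := by
    rw [h_add_left, h_smul_left, D.h_mixed, D.h_mixed, D.symm r1 r2] at hz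
    linear_combination hz
  have hν : ζ ^ 2 ∈ F₀ := D.mem_of_fixed (by rw [← pow_mul, mul_comm, pow_mul, D.skew, neg_sq])
  -- one reduction step
  have back : ∀ x : Fin n → F₀, hh (ri P x) (ri P x) = 0 → ∀ τ : F₀, ∀ r1' r2' : Fin n → F₀,
      IsCtr K (ri P r1' + ζ • ri P r2') →
      ri P r1' = ri P r1 + (τ * ζ ^ 2 * hh (ri P r2) (ri P x)) • ri P x →
      ri P r2' = ri P r2 + (τ * hh (ri P r1) (ri P x)) • ri P x →
      IsCtr K (ri P r1 + ζ • ri P r2) := by
    intro x hx τ r1' r2' hC e1 e2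
    have h1 := ctr_step D.hF hC (hc x hx) (c := -(ζ * τ))
      (by rw [neg_pow_q D.hF, mul_pow, D.skew, D.fixed τ.2]; ring)
    have e : hh (ri P r1' + ζ • ri P r2') (ri P x) =
        hh (ri P r1) (ri P x) + ζ * hh (ri P r2) (ri P x) := by
      rw [e1, e2]
      simp only [h_add_left, h_smul_left, hx, mul_zero, add_zero]
    rw [e] at h1
    rw [e1, e2] at h1
    convert h1 using 1
    module
  -- two isotropic rational parts
  have base : ∀ s1 s2 : Fin n → F₀, hh (ri P s1) (ri P s1) = 0 → hh (ri P s2) (ri P s2) = 0 →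
      hh (ri P s1) (ri P s2) ≠ 0 → IsCtr K (ri P s1 + ζ • ri P s2) := by
    intro s1 s2 h1 h2 hne
    refine ctr_comb D.hF (hc s1 h1) (hc s2 h2) hne ?_
    rw [div_pow, D.skew, D.fixed (D.rat _ _)]
    ring
  have zero_case : ∀ s1 s2 : Fin n → F₀, hh (ri P s1) (ri P s1) = 0 → hh (ri P s2) (ri P s2) = 0 →
      (∀ c : F₀, c • s1 ≠ s2) → s1 ≠ 0 → hh (ri P s1) (ri P s2) = 0 →
      ∃ x : Fin n → F₀, hh (ri P x) (ri P x) = 0 ∧ hh (ri P s1) (ri P x) = 0 ∧ hh (ri P s2) (ri P x) ≠ 0 := by
    intro s1 s2 _ _ hind _ _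
    obtain ⟨x, hx, hxo, hx2⟩ := D.exists_val (Submodule.span F₀ {s1})
      ((finrank_span_singleton_le s1).trans (by omega)) (v := s2)
      (fun h => by obtain ⟨c, hc⟩ := Submodule.mem_span_singleton.1 h; exact hind c hc)
    exact ⟨x, hx, hxo s1 (Submodule.mem_span_singleton_self s1), hx2⟩
  by_cases hN : hh (ri P r2) (ri P r2) = 0
  · have hN1 : hh (ri P r1) (ri P r1) = 0 := by rw [hN, mul_zero, sub_zero] at hz'; exact hz'
    by_cases hg : hh (ri P r1) (ri P r2) = 0
    · obtain ⟨x, hx, hx1, hx2⟩ := zero_case r1 r2 hN1 hN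
        (fun c h => h21 (Submodule.mem_span_singleton.2 ⟨c, h⟩))
        (fun h => h12 (h ▸ zero_mem _)) hg
      set k : F₀ := ⟨ζ ^ 2 * hh (ri P r2) (ri P x), mul_mem hν (D.rat _ _)⟩ with hkdef
      refine back x hx 1 (r1 + k • x) r2 (base _ _ ?_ hN ?_)
        (by rw [ri_add, ri_smul]; simp [hkdef, mul_assoc]) (by simp [hx1])
      · simp only [ri_add, ri_smul, h_add_left, h_add_right D.hF, h_smul_left, h_smul_right D.hF,
          hN1, hx, hx1, D.symm r1 x]
        ring
      · simp only [ri_add, ri_smul, h_add_left, h_smul_left, hg, D.symm r2 x, zero_add, hkdef]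
        exact mul_ne_zero (mul_ne_zero (pow_ne_zero _ D.ne) hx2) hx2
    · exact base _ _ hN1 hN hg
  · obtain ⟨x, hx, hxo, hx1⟩ := D.exists_val (Submodule.span F₀ {r1 - r2})
      ((finrank_span_singleton_le _).trans (by omega)) (v := r1) (fun h => by
        obtain ⟨c, hc⟩ := Submodule.mem_span_singleton.1 h
        rcases eq_or_ne c 0 with rfl | hc0
        · rw [zero_smul] at hc
          exact h12 (hc ▸ zero_mem _)
        · refine h21 (Submodule.mem_span_singleton.2 ⟨(c - 1) / c, ?_⟩)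
          have h' := congrArg (fun t => c⁻¹ • t) hc
          simp only [smul_smul, inv_mul_cancel₀ hc0, one_smul] at h'
          rw [sub_div, sub_smul, one_div, ← h', div_self hc0, one_smul]
          abel)
    have he : hh (ri P r2) (ri P x) = hh (ri P r1) (ri P x) := by
      have := hxo (r1 - r2) (Submodule.mem_span_singleton_self _)
      rw [ri_sub, h_sub_left, sub_eq_zero] at this
      exact this.symm
    set α := hh (ri P r1) (ri P x) with hα
    set τ : F₀ := ⟨-hh (ri P r2) (ri P r2) / (2 * α ^ 2), div_mem (neg_mem (D.rat _ _))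
      (mul_mem D.two_mem (pow_mem (D.rat _ _) 2))⟩ with hτ
    set k1 : F₀ := ⟨τ * ζ ^ 2 * α, mul_mem (mul_mem τ.2 hν) (D.rat _ _)⟩ with hk1
    set k2 : F₀ := ⟨τ * α, mul_mem τ.2 (D.rat _ _)⟩ with hk2
    have hτ' : 2 * (τ : F) * α * α = -hh (ri P r2) (ri P r2) := by
      have h2 := D.two
      rw [hτ]
      simp only
      field_simp
    set s1 := r1 + k1 • x with hs1def
    set s2 := r2 + k2 • x with hs2def
    have hi1 : hh (ri P s1) (ri P s1) = 0 := by
      simp only [hs1def, ri_add, ri_smul, h_add_left, h_add_right D.hF, h_smul_left,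
        h_smul_right D.hF, hx, D.symm r1 x, D.fixed k1.2, ← hα]
      simp only [hk1]
      linear_combination hz' + ζ ^ 2 * hτ'
    have hi2 : hh (ri P s2) (ri P s2) = 0 := by
      simp only [hs2def, ri_add, ri_smul, h_add_left, h_add_right D.hF, h_smul_left,
        h_smul_right D.hF, hx, D.symm r2 x, D.fixed k2.2, he, ← hα]
      simp only [hk2]
      linear_combination hτ'
    refine back x hx τ s1 s2 ?_ (by rw [hs1def, ri_add, ri_smul, he])
      (by rw [hs2def, ri_add, ri_smul])
    by_cases hg : hh (ri P s1) (ri P s2) = 0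
    · -- a second step
      by_cases heq : s1 = s2
      · have := ctr_smul D.hF (hc s1 hi1) (1 + ζ)
        rw [← heq]
        convert this using 1
        module
      have hind : ∀ c : F₀, c • s1 ≠ s2 := by
        intro c hc'
        have e := congrArg (fun t => hh (ri P t) (ri P x)) hc'
        simp only [ri_smul, h_smul_left, hs1def, hs2def, ri_add, h_add_left, hx, mul_zero, add_zero,
          he, ← hα] at e
        have hc1 : (c : F) = 1 := mul_right_cancel₀ hx1 (e.trans (one_mul α).symm)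
        rw [show c = 1 from Subtype.ext hc1, one_smul] at hc'
        exact heq hc'
      obtain ⟨y, hy, hy1, hy2⟩ := zero_case s1 s2 hi1 hi2 hind
        (fun h => by
          have e := congrArg (fun t => hh (ri P t) (ri P x)) h
          simp only [hs1def, ri_add, ri_smul, h_add_left, h_smul_left, hx, mul_zero, add_zero,
            ri_zero, h_zero_left, ← hα] at e
          exact hx1 e) hg
      set k : F₀ := ⟨ζ ^ 2 * hh (ri P s2) (ri P y), mul_mem hν (D.rat _ _)⟩ with hkdef
      have hC : IsCtr K (ri P (s1 + k • y) + ζ • ri P s2) := by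
        refine base _ _ ?_ hi2 ?_
        · simp only [ri_add, ri_smul, h_add_left, h_add_right D.hF, h_smul_left, h_smul_right D.hF,
            hi1, hy, hy1, D.symm s1 y]
          ring
        · simp only [ri_add, ri_smul, h_add_left, h_smul_left, hg, D.symm s2 y, zero_add, hkdef]
          exact mul_ne_zero (mul_ne_zero (pow_ne_zero _ D.ne) hy2) hy2
      have h1 := ctr_step D.hF hC (hc y hy) (c := -ζ) (by rw [neg_pow_q D.hF, D.skew]; ring)
      have e : hh (ri P (s1 + k • y) + ζ • ri P s2) (ri P y) = ζ * hh (ri P s2) (ri P y) := by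
        simp only [ri_add, ri_smul, h_add_left, h_smul_left, hy, hy1, mul_zero, add_zero, zero_add]
      rw [e, ri_add, ri_smul, hkdef] at h1
      convert h1 using 1
      module
    · exact base _ _ hi1 hi2 hg

/-- A group containing the rational isometries and moving a rational isotropic point is everything. -/
theorem eq_top_of_moves {g : SU n F q} (hg : g ∈ K) {a : Fin n → F₀}
    (haa : hh (ri P a) (ri P a) = 0)
    (hbad : ∀ (l : F) (r : Fin n → F₀), suMat g *ᵥ ri P a ≠ l • ri P r) : K = ⊤ := by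
  obtain ⟨u, v, h, hu, hv⟩ := D.exists_full hK hg haa hbad
  have := D.hn
  exact eq_top_of_ctr D.hF (by omega) K fun z hz =>
    D.ctr_isotropic (fun w hw => D.ctr_all hK h hu hv hw) hz

omit hK in
/-- An element keeping the rational isotropic points on rational lines keeps the structure up to a scalar. -/
theorem exists_scalar {g : SU n F q}
    (h : ∀ a : Fin n → F₀, hh (ri P a) (ri P a) = 0 →
      ∃ (l : F) (r : Fin n → F₀), suMat g *ᵥ ri P a = l • ri P r) :
    ∃ c : F, c ≠ 0 ∧ ∀ a : Fin n → F₀, ∃ r : Fin n → F₀, suMat g *ᵥ ri P a = c • ri P r := by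
  have ginj : Function.Injective (fun v => suMat g *ᵥ v) := fun x y e => by
    have e' : suMat g⁻¹ *ᵥ (suMat g *ᵥ x) = suMat g⁻¹ *ᵥ (suMat g *ᵥ y) :=
      congrArg (fun v => suMat g⁻¹ *ᵥ v) e
    rwa [suMat_inv_mulVec, suMat_inv_mulVec] at e'
  -- equal scalars for an orthogonal pair
  have pair : ∀ {a b : Fin n → F₀} {l m : F} {r s : Fin n → F₀}, hh (ri P a) (ri P a) = 0 →
      hh (ri P b) (ri P b) = 0 → hh (ri P a) (ri P b) = 0 → b ∉ Submodule.span F₀ {a} →
      a ≠ 0 → suMat g *ᵥ ri P a = l • ri P r → suMat g *ᵥ ri P b = m • ri P s → l / m ∈ F₀ := by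
    intro a b l m r s ha hb hab hind ha0 hl hm
    obtain ⟨k, t, hk⟩ := h (a + b) (by
      rw [ri_add, h_add_left, h_add_right D.hF, h_add_right D.hF, ha, hb, hab, D.symm a b, hab]
      simp)
    rw [ri_add, mulVec_add, hl, hm] at hk
    have hk0 : k ≠ 0 := fun h0 => by
      rw [h0, zero_smul, ← hl, ← hm, ← mulVec_add, ← ri_add] at hk
      have := ri_injective ((ginj (hk.trans (mulVec_zero _).symm)).trans ri_zero.symm)
      exact hind (Submodule.mem_span_singleton.2 ⟨-1, by
        rw [neg_one_smul]; exact (eq_neg_of_add_eq_zero_right this).symm⟩)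
    obtain ⟨p1, p2, hp⟩ := D.coords (l / k)
    obtain ⟨o1, o2, ho⟩ := D.coords (m / k)
    have e : ri P (p1 • r + o1 • s - t) + ζ • ri P (p2 • r + o2 • s) = 0 := by
      have e0 : (l / k) • ri P r + (m / k) • ri P s = ri P t := by
        have := congrArg (fun v => k⁻¹ • v) hk
        simp only [smul_add, smul_smul, inv_mul_cancel₀ hk0, one_smul] at this
        rwa [inv_mul_eq_div, inv_mul_eq_div] at this
      rw [ri_sub, ← e0, hp, ho, ri_add, ri_add, ri_smul, ri_smul, ri_smul, ri_smul]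
      module
    have e2 := (D.ri_sep e).2
    by_cases hp2 : p2 = 0
    · by_cases ho2 : o2 = 0
      · have : l / m = (l / k) / (m / k) := by field_simp
        rw [this, hp, ho, hp2, ho2]
        simp only [ZeroMemClass.coe_zero, mul_zero, add_zero]
        exact div_mem p1.2 o1.2
      · exfalso
        rw [hp2, zero_smul, zero_add, smul_eq_zero] at e2
        rw [e2.resolve_left ho2, ri_zero, smul_zero] at hm
        have := ri_injective ((ginj (hm.trans (mulVec_zero _).symm)).trans ri_zero.symm)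
        exact hind (this ▸ zero_mem _)
    · exfalso
      have hr : r = (-(o2 / p2)) • s := by
        have := congrArg (fun v => p2⁻¹ • v) e2
        simp only [smul_add, smul_smul, inv_mul_cancel₀ hp2, one_smul, smul_zero] at this
        rw [neg_smul, div_eq_inv_mul]
        exact eq_neg_of_add_eq_zero_left this
      rw [hr, ri_smul, smul_smul] at hl
      rcases eq_or_ne m 0 with rfl | hm0
      · rw [zero_smul] at hm
        have := ri_injective ((ginj (hm.trans (mulVec_zero _).symm)).trans ri_zero.symm)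
        exact hind (this ▸ zero_mem _)
      set c : F := l * ((-(o2 / p2) : F₀) : F) / m with hc
      have hab' : ri P a = c • ri P b := ginj (by
        show suMat g *ᵥ ri P a = suMat g *ᵥ (c • ri P b)
        rw [mulVec_smul, hm, smul_smul, hc, div_mul_cancel₀ _ hm0, hl])
      obtain ⟨c1, c2, hc'⟩ := D.coords c
      have e3 : ri P (a - c1 • b) + ζ • ri P ((-c2) • b) = 0 := by
        rw [ri_sub, hab', hc', ri_smul, ri_smul, NegMemClass.coe_neg]
        module
      have e4 := (D.ri_sep e3).1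
      rw [sub_eq_zero] at e4
      rcases eq_or_ne c1 0 with h0 | h0
      · exact ha0 (by rw [e4, h0, zero_smul])
      · exact hind (Submodule.mem_span_singleton.2
          ⟨c1⁻¹, by rw [e4, smul_smul, inv_mul_cancel₀ h0, one_smul]⟩)
  obtain ⟨a₀, ha₀, -, ha₀0⟩ := D.exists_out ⊥ ⊥ (by simp) (by simp)
  rw [Submodule.mem_bot] at ha₀0
  obtain ⟨l₀, r₀, hl₀⟩ := h a₀ ha₀
  have hl₀0 : l₀ ≠ 0 := fun h0 => ha₀0 (by
    rw [h0, zero_smul] at hl₀
    exact ri_injective ((ginj (hl₀.trans (mulVec_zero _).symm)).trans ri_zero.symm))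
  refine ⟨l₀, hl₀0, ?_⟩
  have iso : ∀ a : Fin n → F₀, hh (ri P a) (ri P a) = 0 → ∃ r : Fin n → F₀, suMat g *ᵥ ri P a = l₀ • ri P r := by
    intro a ha
    rcases eq_or_ne a 0 with rfl | ha0
    · exact ⟨0, by rw [ri_zero, mulVec_zero, smul_zero]⟩
    obtain ⟨l, r, hl⟩ := h a ha
    have hS : Module.finrank F₀ (Submodule.span F₀ {a, a₀}) ≤ 3 :=
      (finrank_span_insert_le _ _).trans (by have := finrank_span_singleton_le (k := F₀) a₀; omega)
    obtain ⟨b, hb, hbo, hbn⟩ :=
      D.exists_out (Submodule.span F₀ {a, a₀}) (Submodule.span F₀ {a, a₀}) hS (hS.trans (by omega))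
    obtain ⟨m, s, hm⟩ := h b hb
    have hm0 : m ≠ 0 := fun h0 => hbn (by
      rw [h0, zero_smul] at hm
      rw [ri_injective ((ginj (hm.trans (mulVec_zero _).symm)).trans ri_zero.symm)]
      exact zero_mem _)
    have t1 := pair ha hb (hbo a (Submodule.subset_span (by simp)))
      (fun h => hbn (Submodule.span_mono (by simp) h)) ha0 hl hm
    have t2 := pair ha₀ hb (hbo a₀ (Submodule.subset_span (by simp)))
      (fun h => hbn (Submodule.span_mono (by simp) h)) ha₀0 hl₀ hm
    have t3 : l / l₀ ∈ F₀ := by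
      rw [show l / l₀ = l / m / (l₀ / m) by field_simp]
      exact div_mem t1 t2
    refine ⟨(⟨l / l₀, t3⟩ : F₀) • r, ?_⟩
    rw [hl, ri_smul, smul_smul]
    show l • ri P r = (l₀ * (l / l₀)) • ri P r
    rw [mul_div_cancel₀ _ hl₀0]
  intro a
  induction D.mem_span_singular a using Submodule.span_induction with
  | mem x hx => exact iso x hx
  | zero => exact ⟨0, by rw [ri_zero, mulVec_zero, smul_zero]⟩
  | add x y _ _ hx hy =>
    obtain ⟨r, hr⟩ := hx
    obtain ⟨s, hs⟩ := hy
    exact ⟨r + s, by rw [ri_add, mulVec_add, hr, hs, ri_add, smul_add]⟩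
  | smul c x _ hx =>
    obtain ⟨r, hr⟩ := hx
    exact ⟨c • r, by rw [ri_smul, mulVec_smul, hr, ri_smul, smul_comm]⟩

end Setup

end OrthTen

end H38.SUBundle
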