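import Cfsg.Agent.H41.UDec.Phases

/-! Zero sums of real scalars with norm-one coefficients of prescribed product. -/

set_option autoImplicit false
set_option linter.unusedSectionVars false

namespace H38.SUBundle.Parity

open Finset H41.UDec

variable {F : Type*} [Field F] [Fintype F] {q : ℕ}

/-- The quadratic character of the norm-one scalars. -/
def chi (q : ℕ) (x : F) : F := x ^ ((q + 1) / 2)

theorem chi_mul (x y : F) : chi q (x * y) = chi q x * chi q y := mul_pow x y _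

theorem chi_one : chi q (1 : F) = 1 := one_pow _

theorem chi_pm (hq : Odd q) {x : F} (hx : Circ q x) : chi q x = 1 ∨ chi q x = -1 := by
  obtain ⟨k, rfl⟩ := hq
  refine sq_eq_one_iff.mp ?_
  rw [chi, ← pow_mul, show (2 * k + 1 + 1) / 2 * 2 = 2 * k + 1 + 1 by omega, pow_succ']
  exact hx

theorem chi_mul_self (hq : Odd q) {x : F} (hx : Circ q x) : chi q (x * x) = 1 := by
  rw [chi_mul]
  rcases chi_pm hq hx with h | h <;> rw [h] <;> norm_num

variable (hF : Fintype.card F = q ^ 2)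
include hF

theorem odd_of_two_ne_zero (h2 : (2 : F) ≠ 0) : Odd q := by
  have h : ringChar F ≠ 2 := fun h => h2 (by
    have := (ringChar.spec F 2).mpr (by rw [h])
    exact_mod_cast this)
  have := FiniteField.odd_card_of_char_ne_two h
  rw [hF] at this
  rcases Nat.even_or_odd q with ⟨k, hk⟩ | h
  · exfalso
    rw [hk, show (k + k) ^ 2 = 2 * (2 * k * k) by ring] at this
    omega
  · exact h

theorem exists_pow_eq {κ : F} (hκ : Circ q κ) (hord : ∀ k : ℕ, κ ^ k = 1 → q + 1 ∣ k) {d : F}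
    (hd : Circ q d) : ∃ j : ℕ, d = κ ^ j := by
  classical
  have hsub : (Finset.range (q + 1)).image (fun j => κ ^ j) = circles q F := by
    refine Finset.eq_of_subset_of_card_le (fun x hx => ?_) ?_
    · obtain ⟨j, -, rfl⟩ := Finset.mem_image.mp hx
      exact mem_circles.mpr (hκ.pow j)
    · rw [card_circles hF, Finset.card_image_of_injOn, Finset.card_range]
      have key : ∀ i j, i ≤ j → j < q + 1 → κ ^ i = κ ^ j → i = j := by
        intro i j hle hj hij
        have h : κ ^ i * κ ^ (j - i) = κ ^ i * 1 := by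
          rw [← pow_add, Nat.add_sub_cancel' hle, mul_one]; exact hij.symm
        have := Nat.eq_zero_of_dvd_of_lt (hord _ (mul_left_cancel₀ (pow_ne_zero _ hκ.ne_zero) h))
          (by omega)
        omega
      intro i hi j hj hij
      simp only [Finset.coe_range, Set.mem_Iio] at hi hj
      rcases le_total i j with h | h
      · exact key i j h hj hij
      · exact (key j i h hi hij.symm).symm
  have := mem_circles.mpr hd
  rw [← hsub, Finset.mem_image] at this
  obtain ⟨j, -, h⟩ := this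
  exact ⟨j, h.symm⟩

theorem exists_sq (hq : Odd q) {d : F} (hd : Circ q d) (hc : chi q d = 1) :
    ∃ w : F, Circ q w ∧ w * w = d := by
  obtain ⟨κ, hκ, hord⟩ := exists_circ_gen hF
  obtain ⟨j, rfl⟩ := exists_pow_eq hF hκ hord hd
  rw [chi, ← pow_mul] at hc
  obtain ⟨k, hk⟩ := hq
  obtain ⟨t, ht⟩ := hord _ hc
  have hj : j = 2 * t := by
    rw [hk, show (2 * k + 1 + 1) / 2 = k + 1 by omega] at ht
    exact Nat.eq_of_mul_eq_mul_right (show 0 < k + 1 by omega) (ht.trans (by ring))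
  exact ⟨κ ^ t, hκ.pow t, by rw [← pow_add, hj, two_mul]⟩

omit hF in
theorem real_pow_sub_one {b : F} (hb : b ^ q = b) (hb0 : b ≠ 0) : b ^ (q - 1) = 1 := by
  rcases Nat.eq_zero_or_pos q with h | h
  · rw [h]; exact pow_zero b
  · refine mul_right_cancel₀ hb0 ?_
    rw [← pow_succ, Nat.sub_add_cancel h, one_mul, hb]

omit hF in
theorem sq_pow_half {b : F} (hq : Odd q) (hb : b ^ q = b) (hb0 : b ≠ 0) :
    (b * b) ^ ((q - 1) / 2) = 1 := by
  rw [← pow_two, ← pow_mul]
  obtain ⟨k, rfl⟩ := hq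
  rw [show 2 * ((2 * k + 1 - 1) / 2) = 2 * k + 1 - 1 by omega]
  exact real_pow_sub_one hb hb0

open Classical in
/-- At most `(q - 1) / 2` scalars are killed by the Euler power. -/
theorem card_euler (hq : Odd q) :
    ((Finset.univ : Finset F).filter fun x => x ^ ((q - 1) / 2) = 1).card ≤ (q - 1) / 2 := by
  have hk : 0 < (q - 1) / 2 := by
    have := H50.two_le hF
    obtain ⟨k, rfl⟩ := hq
    omega
  refine (Finset.card_le_card (t := (Polynomial.nthRoots ((q - 1) / 2) (1 : F)).toFinset)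
    fun x hx => ?_).trans ((Multiset.toFinset_card_le _).trans (Polynomial.card_nthRoots _ _))
  rw [Finset.mem_filter] at hx
  rw [Multiset.mem_toFinset, Polynomial.mem_nthRoots hk]
  exact hx.2

/-- Five real summands: two solutions whose products differ by a non-square. -/
theorem five (hq : Odd q) {b1 b2 b3 b4 b5 : F} (r1 : b1 ^ q = b1) (r2 : b2 ^ q = b2)
    (r3 : b3 ^ q = b3) (h1 : b1 ≠ 0) (h2 : b2 ≠ 0) (h3 : b3 ≠ 0) (h4 : b4 ≠ 0) (h5 : b5 ≠ 0) :
    ∃ l L L' ν ν' m, Circ q l ∧ Circ q L ∧ Circ q L' ∧ Circ q ν ∧ Circ q ν' ∧ Circ q m ∧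
      b1 + l * b2 + L * b3 + ν * b4 + ν * m * b5 = 0 ∧
      b1 + l * b2 + L' * b3 + ν' * b4 + ν' * m * b5 = 0 ∧ chi q L' = -chi q L := by
  classical
  have hq0 : q ≠ 0 := H50.q_ne_zero hF
  obtain ⟨k, hk⟩ := id hq
  have hcs := card_rng_real hF h1 h2 (by rw [r1, r2])
  have hE := card_euler hF hq
  obtain ⟨v, hv, hvn⟩ := Finset.exists_mem_notMem_of_card_lt_card
    (s := insert 0 ((Finset.univ : Finset F).filter fun x => x ^ ((q - 1) / 2) = 1))
    (t := rng q b1 b2) (by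
      have := Finset.card_insert_le (0 : F)
        ((Finset.univ : Finset F).filter fun x => x ^ ((q - 1) / 2) = 1)
      omega)
  rw [Finset.mem_insert, Finset.mem_filter, not_or] at hvn
  have hv0 : v ≠ 0 := hvn.1
  have hvq : v ^ q = v := mem_reals.mp (rng_subset_reals hF b1 b2 hv)
  have hvk : v ^ ((q - 1) / 2) = -1 := by
    have h := real_pow_sub_one hvq hv0
    rw [show q - 1 = (q - 1) / 2 * 2 by omega, pow_mul] at h
    exact (sq_eq_one_iff.mp h).resolve_left fun h => hvn.2 ⟨Finset.mem_univ _, h⟩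
  obtain ⟨l, hl, hlv⟩ := mem_rng.mp hv
  set a := b1 + l * b2 with ha
  have ha0 : a ≠ 0 := fun h => hv0 (by rw [← hlv, h, zero_mul])
  have i1 := card_rng hF ha0 h3
  have i2 := card_rng hF h4 h5
  have hu : (rng q a b3 ∪ rng q b4 b5).card ≤ q :=
    (Finset.card_le_card (Finset.union_subset (rng_subset_reals hF _ _)
      (rng_subset_reals hF _ _))).trans (card_reals hF).le
  have := Finset.card_union_add_card_inter (rng q a b3) (rng q b4 b5)
  obtain ⟨w, hw⟩ : (rng q a b3 ∩ rng q b4 b5).Nonempty := Finset.card_pos.mp (by omega)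
  rw [Finset.mem_inter, mem_rng, mem_rng] at hw
  obtain ⟨⟨L, hL, hLw⟩, m, hm, hmw⟩ := hw
  have hL' : L * L ^ q = 1 := hL
  -- the other root of the same norm
  let u : F := a / a ^ q
  have hu' : Circ q u := circ_div_of_norm (pow_ne_zero _ ha0) (by rw [H50.pow_q_pow_q hF, mul_comm])
  have hchi : chi q u = -1 := by
    have e : a ^ ((q + 1) / 2) * v ^ ((q - 1) / 2) = (a ^ q) ^ ((q + 1) / 2) := by
      rw [← hlv, ← pow_succ', ← pow_mul, ← pow_add, ← pow_mul, hk,
        show (2 * k + 1 + 1) / 2 = k + 1 by omega, show (2 * k + 1 - 1) / 2 = k by omega]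
      congr 1
      ring
    rw [chi, div_pow, div_eq_iff (pow_ne_zero _ (pow_ne_zero _ ha0)), ← e, hvk]
    ring
  have hne : a + L * b3 ≠ 0 := fun h => by
    have hv2 : v = b3 * b3 := by
      rw [← hlv, show a = -(L * b3) by linear_combination h, H50.neg_pow_q hF, mul_pow, r3]
      linear_combination (b3 * b3) * hL'
    rw [hv2, sq_pow_half hq r3 h3] at hvk
    exact (Ring.neg_one_ne_one_of_char_ne_two (R := F) fun h => by
      have := FiniteField.even_card_of_char_two h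
      rw [hF, hk] at this
      rw [show (2 * k + 1) ^ 2 = 2 * (2 * k * k + 2 * k) + 1 by ring] at this
      omega) hvk.symm
  have hne2 : b4 + m * b5 ≠ 0 := fun h => by
    rw [h, zero_mul] at hmw
    rw [← hmw] at hLw
    rcases mul_eq_zero.mp hLw with h' | h'
    · exact hne h'
    · exact hne (eq_zero_of_pow_eq_zero h')
  have hN' : (a + u / L * b3) * (a + u / L * b3) ^ q = (a + L * b3) * (a + L * b3) ^ q := by
    have hLi : L⁻¹ = L ^ q := hL.pow_q ▸ rfl
    simp only [u, div_eq_mul_inv, hLi, H50.add_pow_q hF, mul_pow, inv_pow, H50.pow_q_pow_q hF, r3]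
    field_simp
  have mk : ∀ L₁, Circ q L₁ → (a + L₁ * b3) * (a + L₁ * b3) ^ q = w →
      ∃ ν, Circ q ν ∧ a + L₁ * b3 + ν * b4 + ν * m * b5 = 0 := fun L₁ _ h => by
    refine ⟨_, (circ_neg_one hF).mul (circ_div_of_norm hne2 (h.trans hmw.symm)), ?_⟩
    field_simp
    ring
  obtain ⟨ν, hν, e1⟩ := mk L hL hLw
  obtain ⟨ν', hν', e2⟩ := mk (u / L) (hu'.div hL) (hN'.trans hLw)
  refine ⟨l, L, u / L, ν, ν', m, hl, hL, hu'.div hL, hν, hν', hm, e1, e2, ?_⟩
  have h1 : chi q (u / L) * chi q L = -1 := by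
    rw [← chi_mul, div_mul_cancel₀ _ hL.ne_zero, hchi]
  rcases chi_pm hq hL with h | h <;> rw [h] at h1 ⊢
  · linear_combination h1
  · linear_combination -h1

/-- Signs making the sum of a non-empty family of real scalars non-zero. -/
theorem merge (hq : Odd q) {ι : Type*} {t : Finset ι} (ht : t.Nonempty) (a : ι → F)
    (hr : ∀ i ∈ t, a i ^ q = a i) (ha : ∀ i ∈ t, a i ≠ 0) :
    ∃ e : ι → F, (∀ i, Circ q (e i)) ∧ (∑ i ∈ t, e i * a i) ^ q = ∑ i ∈ t, e i * a i ∧
      ∑ i ∈ t, e i * a i ≠ 0 := by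
  classical
  induction t using Finset.induction_on with
  | empty => exact absurd ht (by simp)
  | insert j t hj ih =>
    rcases t.eq_empty_or_nonempty with rfl | hne
    · exact ⟨fun _ => 1, fun _ => Circ.one, by simp [hr], by simp [ha]⟩
    obtain ⟨e, he, her, he0⟩ := ih hne (fun i hi => hr i (Finset.mem_insert_of_mem hi))
      fun i hi => ha i (Finset.mem_insert_of_mem hi)
    obtain ⟨σ, hσ, hσq, hσ0⟩ : ∃ σ, Circ q σ ∧ σ ^ q = σ ∧ σ * a j + ∑ i ∈ t, e i * a i ≠ 0 := by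
      by_cases h : a j + ∑ i ∈ t, e i * a i = 0
      · refine ⟨-1, circ_neg_one hF, hq.neg_one_pow, fun h' => ?_⟩
        have hj0 : (2 : F) * a j = 0 := by linear_combination h - h'
        refine ha j (Finset.mem_insert_self j t) ((mul_eq_zero.mp hj0).resolve_left fun h2 => ?_)
        have := FiniteField.even_card_of_char_two (F := F) (ringChar.eq_iff.mpr ?_)
        · obtain ⟨k, rfl⟩ := hq
          rw [hF, show (2 * k + 1) ^ 2 = 2 * (2 * k * k + 2 * k) + 1 by ring] at this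
          omega
        · exact CharTwo.of_one_ne_zero_of_two_eq_zero one_ne_zero h2
      · exact ⟨1, Circ.one, one_pow q, by rwa [one_mul]⟩
    have hs : ∑ i ∈ insert j t, (if i = j then σ else e i) * a i =
        σ * a j + ∑ i ∈ t, e i * a i := by
      rw [Finset.sum_insert hj, if_pos rfl]
      exact congrArg _ (Finset.sum_congr rfl fun i hi => by
        rw [if_neg fun h : i = j => hj (h ▸ hi)])
    refine ⟨fun i => if i = j then σ else e i, fun i => ?_, ?_, ?_⟩
    · dsimp only; split_ifs; exacts [hσ, he i]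
    · rw [hs, H50.add_pow_q hF, mul_pow, hσq, hr j (Finset.mem_insert_self j t), her]
    · rw [hs]; exact hσ0

/-- At least five real summands: zero sum with prescribed character of the product. -/
theorem solve_parity (hq : Odd q) {ι : Type*} [DecidableEq ι] (s : Finset ι) (a : ι → F)
    (hs : 5 ≤ s.card) (hr : ∀ i ∈ s, a i ^ q = a i) (ha : ∀ i ∈ s, a i ≠ 0) {e : F}
    (he : e = 1 ∨ e = -1) :
    ∃ f : ι → F, (∀ i, Circ q (f i)) ∧ ∑ i ∈ s, f i * a i = 0 ∧ chi q (∏ i ∈ s, f i) = e := by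
  obtain ⟨j2, h2⟩ := Finset.card_pos.mp (show 0 < s.card by omega)
  have c1 := Finset.card_erase_of_mem h2
  obtain ⟨j3, h3⟩ := Finset.card_pos.mp (show 0 < (s.erase j2).card by omega)
  have c2 := Finset.card_erase_of_mem h3
  obtain ⟨j4, h4⟩ := Finset.card_pos.mp (show 0 < ((s.erase j2).erase j3).card by omega)
  have c3 := Finset.card_erase_of_mem h4
  obtain ⟨j5, h5⟩ := Finset.card_pos.mp (show 0 < (((s.erase j2).erase j3).erase j4).card by omega)
  have c4 := Finset.card_erase_of_mem h5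
  set t := (((s.erase j2).erase j3).erase j4).erase j5 with ht
  have h4' := h4
  have h5' := h5
  simp only [Finset.mem_erase] at h4' h5'
  obtain ⟨n32, h3s⟩ := Finset.mem_erase.mp h3
  have htmem : ∀ i ∈ t, i ∈ s ∧ i ≠ j2 ∧ i ≠ j3 ∧ i ≠ j4 ∧ i ≠ j5 := fun i hi => by
    simp only [t, Finset.mem_erase] at hi
    exact ⟨hi.2.2.2.2, hi.2.2.2.1, hi.2.2.1, hi.2.1, hi.1⟩
  obtain ⟨σ, hσ, hσr, hσ0⟩ := merge hF hq (t := t) (Finset.card_pos.mp (by omega)) a
    (fun i hi => hr i (htmem i hi).1) fun i hi => ha i (htmem i hi).1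
  obtain ⟨l, L, L', ν, ν', m, hl, hL, hL', hν, hν', hm, e1, e2, hch⟩ :=
    five hF hq hσr (hr j2 h2) (hr j3 h3s) hσ0 (ha j2 h2) (ha j3 h3s) (ha j4 h4'.2.2)
      (ha j5 h5'.2.2.2)
  have build : ∀ L₁ ν₁, Circ q L₁ → Circ q ν₁ →
      (∑ i ∈ t, σ i * a i) + l * a j2 + L₁ * a j3 + ν₁ * a j4 + ν₁ * m * a j5 = 0 →
      ∃ f : ι → F, (∀ i, Circ q (f i)) ∧ ∑ i ∈ s, f i * a i = 0 ∧
        chi q (∏ i ∈ s, f i) = chi q ((∏ i ∈ t, σ i) * l * m) * chi q L₁ := by
    intro L₁ ν₁ hL₁ hν₁ h0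
    let f : ι → F := fun i => if i = j2 then l else if i = j3 then L₁ else if i = j4 then ν₁
      else if i = j5 then ν₁ * m else σ i
    refine ⟨f, fun i => ?_, ?_, ?_⟩
    · simp only [f]; split_ifs; exacts [hl, hL₁, hν₁, hν₁.mul hm, hσ i]
    · have hsum : ∑ i ∈ t, f i * a i = ∑ i ∈ t, σ i * a i := Finset.sum_congr rfl fun i hi => by
        obtain ⟨-, u2, u3, u4, u5⟩ := htmem i hi
        simp [f, u2, u3, u4, u5]
      rw [← Finset.add_sum_erase _ _ h2, ← Finset.add_sum_erase _ _ h3,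
        ← Finset.add_sum_erase _ _ h4, ← Finset.add_sum_erase _ _ h5, ← ht, hsum]
      simp only [f, if_true, if_neg n32, if_neg h4'.1, if_neg h4'.2.1, if_neg h5'.1,
        if_neg h5'.2.1, if_neg h5'.2.2.1]
      linear_combination h0
    · have hprod : ∏ i ∈ t, f i = ∏ i ∈ t, σ i := Finset.prod_congr rfl fun i hi => by
        obtain ⟨-, u2, u3, u4, u5⟩ := htmem i hi
        simp [f, u2, u3, u4, u5]
      rw [← Finset.mul_prod_erase _ _ h2, ← Finset.mul_prod_erase _ _ h3,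
        ← Finset.mul_prod_erase _ _ h4, ← Finset.mul_prod_erase _ _ h5, ← ht, hprod]
      simp only [f, if_true, if_neg n32, if_neg h4'.1, if_neg h4'.2.1, if_neg h5'.1,
        if_neg h5'.2.1, if_neg h5'.2.2.1]
      rw [show l * (L₁ * (ν₁ * (ν₁ * m * ∏ i ∈ t, σ i))) =
        ((∏ i ∈ t, σ i) * l * m) * L₁ * (ν₁ * ν₁) by ring, chi_mul, chi_mul, chi_mul_self hq hν₁,
        mul_one]
  obtain ⟨f, hf, hf0, hfc⟩ := build L ν hL hν e1
  obtain ⟨f', hf', hf0', hfc'⟩ := build L' ν' hL' hν' e2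
  rw [hch, mul_neg, ← hfc] at hfc'
  rcases chi_pm hq (Circ.prod fun i (_ : i ∈ s) => hf i) with h | h <;> rcases he with rfl | rfl
  · exact ⟨f, hf, hf0, h⟩
  · exact ⟨f', hf', hf0', by rw [hfc', h]⟩
  · exact ⟨f', hf', hf0', by rw [hfc', h, neg_neg]⟩
  · exact ⟨f, hf, hf0, h⟩

open Classical in
/-- Few classes up to sign. -/
theorem exists_sq_collision (hq : Odd q) {ι : Type*} [DecidableEq ι] (s : Finset ι) (a : ι → F)
    (hs : (q - 1) / 2 < s.card) (hr : ∀ i ∈ s, a i ^ q = a i) (ha : ∀ i ∈ s, a i ≠ 0) :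
    ∃ x ∈ s, ∃ y ∈ s, x ≠ y ∧ (a x = a y ∨ a x = -a y) := by
  obtain ⟨x, hx, y, hy, hxy, h⟩ := Finset.exists_ne_map_eq_of_card_lt_of_maps_to
    (s := s) (t := (Finset.univ : Finset F).filter fun v => v ^ ((q - 1) / 2) = 1)
    (lt_of_le_of_lt (card_euler hF hq) hs) (f := fun i => a i * a i) fun i hi => by
      rw [Finset.mem_coe, Finset.mem_filter]
      exact ⟨Finset.mem_univ _, sq_pow_half hq (hr i hi) (ha i hi)⟩
  exact ⟨x, hx, y, hy, hxy, mul_self_eq_mul_self_iff.mp h⟩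

/-- A zero sum on complementary blocks with total product one, from one zero sum on each. -/
theorem assemble {ι : Type*} [Fintype ι] [DecidableEq ι] (A : Finset ι) (a fA fB : ι → F)
    (hA : ∀ i, Circ q (fA i)) (hB : ∀ i, Circ q (fB i)) (sA : ∑ i ∈ A, fA i * a i = 0)
    (sB : ∑ i ∈ Aᶜ, fB i * a i = 0) {νA νB : F} (cA : Circ q νA) (cB : Circ q νB)
    (hp : νA ^ A.card * νB ^ Aᶜ.card * ((∏ i ∈ A, fA i) * ∏ i ∈ Aᶜ, fB i) = 1) :
    ∃ f : ι → F, (∀ i, Circ q (f i)) ∧ ∏ i, f i = 1 ∧ (∑ i ∈ A, f i * a i = 0) ∧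
      ∑ i ∈ Aᶜ, f i * a i = 0 := by
  refine ⟨fun i => if i ∈ A then νA * fA i else νB * fB i, fun i => ?_, ?_, ?_, ?_⟩
  · dsimp only
    split_ifs
    exacts [cA.mul (hA i), cB.mul (hB i)]
  · rw [← Finset.prod_mul_prod_compl A, Finset.prod_congr rfl (fun i hi => by rw [if_pos hi] :
        ∀ i ∈ A, (if i ∈ A then νA * fA i else νB * fB i) = νA * fA i),
      Finset.prod_congr rfl (fun i hi => by rw [if_neg (Finset.mem_compl.mp hi)] :
        ∀ i ∈ Aᶜ, (if i ∈ A then νA * fA i else νB * fB i) = νB * fB i),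
      Finset.prod_mul_distrib, Finset.prod_mul_distrib, Finset.prod_const, Finset.prod_const,
      mul_mul_mul_comm, hp]
  · rw [Finset.sum_congr rfl (fun i hi => by rw [if_pos hi, mul_assoc] :
      ∀ i ∈ A, (if i ∈ A then νA * fA i else νB * fB i) * a i = νA * (fA i * a i)),
      ← Finset.mul_sum, sA, mul_zero]
  · rw [Finset.sum_congr rfl (fun i hi => by rw [if_neg (Finset.mem_compl.mp hi), mul_assoc] :
      ∀ i ∈ Aᶜ, (if i ∈ A then νA * fA i else νB * fB i) * a i = νB * (fB i * a i)),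
      ← Finset.mul_sum, sB, mul_zero]

/-- Four and six, four and eight: real coefficients. -/
theorem solve_even (hq : Odd q) {ι : Type*} [Fintype ι] [DecidableEq ι] (A : Finset ι) (a : ι → F)
    (hr : ∀ i, a i ^ q = a i) (ha : ∀ i, a i ≠ 0) (hA : A.card = 4)
    (hB : Aᶜ.card = 6 ∨ (Aᶜ.card = 8 ∧ (q % 4 = 1 ∨ (q - 1) / 2 < 8))) :
    ∃ f : ι → F, (∀ i, Circ q (f i)) ∧ ∏ i, f i = 1 ∧ (∑ i ∈ A, f i * a i = 0) ∧
      ∑ i ∈ Aᶜ, f i * a i = 0 := by
  obtain ⟨fA, hfA, sA⟩ := solve hF A a (by omega) fun i _ => ha i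
  have hPA : Circ q (∏ i ∈ A, fA i) := Circ.prod fun i _ => hfA i
  have hpm := chi_pm hq hPA
  rcases hB with h6 | ⟨h8, hc⟩
  · obtain ⟨fB, hfB, sB, hcB⟩ := solve_parity hF hq Aᶜ a (by omega) (fun i _ => hr i)
      (fun i _ => ha i) hpm
    have hPB : Circ q (∏ i ∈ Aᶜ, fB i) := Circ.prod fun i _ => hfB i
    obtain ⟨w, hw, hwd⟩ := exists_sq hF hq (hPA.mul hPB) (by
      rw [chi_mul, hcB, ← chi_mul, chi_mul_self hq hPA])
    refine assemble hF A a fA fB hfA hfB sA sB hw hw.inv ?_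
    have h0 := hw.ne_zero
    rw [hA, h6, ← hwd, inv_pow]
    field_simp
  rcases Nat.lt_or_ge ((q - 1) / 2) 8 with hsmall | hbig
  · obtain ⟨x, -, y, -, hxy, hab⟩ := exists_sq_collision hF hq Aᶜ a (by omega) (fun i _ => hr i)
      (fun i _ => ha i)
    obtain ⟨x, hx, y, hy, hxy, hab⟩ := exists_sq_collision hF hq Aᶜ a (by omega) (fun i _ => hr i)
      (fun i _ => ha i)
    obtain ⟨τ, hτ, hτ0⟩ : ∃ τ : F, Circ q τ ∧ a x + τ * a y = 0 := by
      rcases hab with h | h
      · exact ⟨-1, circ_neg_one hF, by rw [h]; ring⟩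
      · exact ⟨1, Circ.one, by rw [h]; ring⟩
    have hy' : y ∈ Aᶜ.erase x := Finset.mem_erase.mpr ⟨Ne.symm hxy, hy⟩
    set R := (Aᶜ.erase x).erase y with hR
    have hRc : R.card = 6 := by
      rw [Finset.card_erase_of_mem hy', Finset.card_erase_of_mem hx]; omega
    obtain ⟨fR, hfR, sR, hcR⟩ := solve_parity hF hq R a (by omega) (fun i _ => hr i)
      (fun i _ => ha i) (e := chi q ((∏ i ∈ A, fA i) * τ)) (chi_pm hq (hPA.mul hτ))
    have hPR : Circ q (∏ i ∈ R, fR i) := Circ.prod fun i _ => hfR i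
    obtain ⟨w, hw, hwd⟩ := exists_sq hF hq ((hPA.mul hτ).mul hPR) (by
      rw [chi_mul, hcR, ← chi_mul, chi_mul_self hq (hPA.mul hτ)])
    let fB : ι → F := fun i => if i = x then w⁻¹ else if i = y then w⁻¹ * τ else fR i
    refine assemble hF A a fA fB hfA (fun i => ?_) sA ?_ Circ.one Circ.one ?_
    · simp only [fB]; split_ifs; exacts [hw.inv, hw.inv.mul hτ, hfR i]
    · rw [← Finset.add_sum_erase _ _ hx, ← Finset.add_sum_erase _ _ hy', ← hR,
        Finset.sum_congr rfl (fun i hi => by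
          simp only [R, Finset.mem_erase] at hi
          simp [fB, hi.1, hi.2.1] : ∀ i ∈ R, fB i * a i = fR i * a i), sR]
      simp only [fB, if_true, if_neg (Ne.symm hxy)]
      linear_combination w⁻¹ * hτ0
    · rw [← Finset.mul_prod_erase _ _ hx, ← Finset.mul_prod_erase _ _ hy', ← hR,
        Finset.prod_congr rfl (fun i hi => by
          simp only [R, Finset.mem_erase] at hi
          simp [fB, hi.1, hi.2.1] : ∀ i ∈ R, fB i = fR i)]
      simp only [fB, if_true, if_neg (Ne.symm hxy), one_pow, one_mul]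
      have h0 := hw.ne_zero
      field_simp
      linear_combination -hwd
  · have hq4 : q % 4 = 1 := hc.resolve_right (by omega)
    obtain ⟨fB, hfB, sB, hcB⟩ := solve_parity hF hq Aᶜ a (by omega) (fun i _ => hr i)
      (fun i _ => ha i) hpm
    have hPB : Circ q (∏ i ∈ Aᶜ, fB i) := Circ.prod fun i _ => hfB i
    obtain ⟨w, hw, hwd⟩ := exists_sq hF hq (hPA.mul hPB) (by
      rw [chi_mul, hcB, ← chi_mul, chi_mul_self hq hPA])
    refine assemble hF A a fA fB hfA hfB sA sB (hw.inv.pow ((q + 3) / 4)) Circ.one ?_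
    have h0 := hw.ne_zero
    have h1 : w * w ^ q = 1 := hw
    rw [hA, one_pow, mul_one, ← hwd, ← pow_mul, show (q + 3) / 4 * 4 = q + 1 + 2 by omega, inv_pow,
      show w ^ (q + 1 + 2) = w * w ^ q * (w * w) by ring, h1, one_mul,
      inv_mul_cancel₀ (mul_ne_zero h0 h0)]

end H38.SUBundle.Parity
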