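import Cfsg.Agent.S5658

/-!
Subfield subgroups of odd prime index in SU_n(q) are maximal from dimension 7 on.
-/

set_option autoImplicit false
set_option linter.unusedSectionVars false
open Cfsg Matrix H50 H38 H38.SubSU
open scoped MatrixGroups
open H51.StabMax (suHom suHom_mem suHom_val exists_suHom_eq)
open Cfsg.Agent.S5658 (rt_emb exists_emb hasRat points)

namespace H38.SUBundle

/-- The subfield subgroup of odd prime index is maximal in SU_n(q) for n ≥ 7. -/
theorem subfield_odd_maximal {F : Type*} [Field F] [Fintype F] {n q : ℕ} (hF : Fintype.card F = q ^ 2) (hn : 7 ≤ n) (F₀ : Subfield F) (r : ℕ) (hr : r.Prime) (hro : Odd r) (hcard : Fintype.card F = Nat.card F₀ ^ r) (P : Matrix.GeneralLinearGroup (Fin n) F) (hP : Cfsg.Geo.IsFormRationalStructure (Cfsg.hermForm n F q) F₀ 1 P) :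
    Cfsg.Geo.IsMaximalIn (Cfsg.GU n F q ⊓ Cfsg.Geo.specialLinear (Fin n) F) (Cfsg.Geo.subfieldSubgroup F₀ P ⊓ (Cfsg.GU n F q ⊓ Cfsg.Geo.specialLinear (Fin n) F)) := by
  have D : Setting n q F₀ P := ⟨hF, ⟨r, hr, hro, by rw [Nat.card_eq_fintype_card]; exact hcard⟩,
    fun u v => by
      have := hP (fun i => u i) (fun i => v i) (fun i => (u i).2) (fun i => (v i).2)
      rwa [one_mul] at this⟩
  set H := Cfsg.Geo.subfieldSubgroup F₀ P with hH
  obtain ⟨θ, hθ⟩ : ∃ θ : F, θ ∉ F₀ := by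
    by_contra hc
    push Not at hc
    have h1 : Nat.card F₀ = Fintype.card F := by
      rw [Nat.card_congr (Equiv.subtypeUnivEquiv hc), Nat.card_eq_fintype_card]
    rw [h1] at hcard
    have := Nat.pow_lt_pow_right (Fintype.one_lt_card (α := F)) hr.one_lt
    rw [pow_one, ← hcard] at this
    omega
  have hθ0 : θ ≠ 0 := fun h0 => hθ (h0 ▸ F₀.zero_mem)
  obtain ⟨a, hai, -, han⟩ := exists_iso_extend (unitary₀ D) (⊥ : Submodule F₀ (Fin n → F₀))
    (fun x hx y _ => by rw [(Submodule.mem_bot F₀).1 hx, uf_zero_left (unitary₀ D)])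
    (by rw [finrank_bot, Fintype.card_fin]; omega)
  have ha : RIso D a := congrArg Subtype.val hai
  have ha0 : a ≠ 0 := fun h0 => han (h0 ▸ Submodule.zero_mem _)
  obtain ⟨b, hbi, hba, hbn⟩ := exists_iso_extend (unitary₀ D) (Submodule.span F₀ {a})
    (fun x hx y hy => by
      obtain ⟨s, rfl⟩ := Submodule.mem_span_singleton.1 hx
      obtain ⟨t, rfl⟩ := Submodule.mem_span_singleton.1 hy
      rw [(unitary₀ D).smul_left, uf_smul_right (unitary₀ D), hai, mul_zero, mul_zero])
    (by rw [finrank_span_singleton ha0, Fintype.card_fin]; omega)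
  have hind : ∀ k : F₀, b ≠ k • a := fun k hk =>
    hbn (hk ▸ Submodule.smul_mem _ _ (Submodule.mem_span_singleton_self a))
  have hab : Cfsg.hermForm n F q (emb P a) (emb P b) = 0 := (h_eq_zero_comm hF).1
    (congrArg Subtype.val (hba a (Submodule.mem_span_singleton_self a)))
  have hnp : ∀ (l : F) (u : Fin n → F₀), emb P a + θ • emb P b ≠ l • emb P u := by
    intro l u he
    have h1 : (1 : F) / θ ∈ F₀ := ratio_of_rel (P := P) (c := l) (w := u) ha0 hind (by rw [one_smul]; exact he) hθ0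
    exact hθ (by have := F₀.inv_mem h1; rwa [one_div, inv_inv] at this)
  refine ⟨lt_of_le_not_ge inf_le_right fun hle => ?_, fun M hHM hMK => ?_⟩
  · obtain ⟨t, -, ht⟩ := reach_isotropic hF (by omega) (emb_ne_zero ha0) ha
      (v := emb P a + θ • emb P b) (fun h0 => hnp 0 0 (by rw [h0, zero_smul]))
      (by
        rw [h_add_left, h_add_right hF, h_add_right hF, h_smul_left, h_smul_right hF,
          h_smul_right hF, h_smul_left, show Cfsg.hermForm n F q (emb P a) (emb P a) = 0 from ha,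
          show Cfsg.hermForm n F q (emb P b) (emb P b) = 0 from congrArg Subtype.val hbi, hab,
          (h_eq_zero_comm hF).1 hab]
        simp)
    obtain ⟨l, v, hv, he⟩ :=
      Cfsg.Agent.S5660.point_of_mem (Subgroup.mem_inf.1 (hle (suHom_mem t))).1 (rt_emb a)
    obtain ⟨u, rfl⟩ := exists_emb hv
    rw [suHom_val, ht] at he
    exact hnp l u he
  by_cases hle : M ≤ H
  · exact Or.inl (le_antisymm (le_inf hle hMK) hHM)
  obtain ⟨g, hgM, hgH⟩ := SetLike.not_le_iff_exists.mp hle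
  obtain ⟨g', rfl⟩ := exists_suHom_eq (hMK hgM)
  refine Or.inr (le_antisymm hMK fun s hs => ?_)
  obtain ⟨s', rfl⟩ := exists_suHom_eq hs
  set K := M.comap (suHom n F q) with hKdef
  have hK : HasRat D K := fun u hu c hcF hc A hA =>
    hHM ⟨hasRat D u hu c hcF hc A hA, suHom_mem A⟩
  obtain ⟨u, hu, -, hbad⟩ : ∃ u : Fin n → F₀, RIso D u ∧ u ≠ 0 ∧
      ∀ (l : F) (w : Fin n → F₀), suMat g' *ᵥ emb P u ≠ l • emb P w := by
    by_contra hc
    push Not at hc
    exact hgH (points D (by omega) g' hc)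
  obtain ⟨c₀, hc₀0, hc₀⟩ := exists_anti₀ D
  have hc₀' : (c₀ : F) ≠ 0 := fun h0 => hc₀0 (Subtype.ext h0)
  have hz : Mem K (suMat g' *ᵥ emb P u) c₀ := mem_conj D (hK u hu _ c₀.2 hc₀) hgM
  have hzz : Cfsg.hermForm n F q (suMat g' *ᵥ emb P u) (suMat g' *ᵥ emb P u) = 0 := by
    rw [suMat_h]; exact hu
  have hgood : GoodScalar D K := by
    by_cases hex : ∃ v : Fin n → F₀, RIso D v ∧ v ≠ 0 ∧
        Cfsg.hermForm n F q (suMat g' *ᵥ emb P u) (emb P v) = 0
    · obtain ⟨v, hv, hv0, hzv⟩ := hex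
      exact exists_good_of_orth D (by omega) hK hz hc₀' hc₀ c₀.2 hzz hbad hv hv0 hzv
    · push Not at hex
      exact exists_good_of_no_orth D (by omega) hK hz hc₀' hc₀ hzz hex
  have htop := eq_top_of_good D (by omega) hK hgood
  show s' ∈ K
  rw [htop]
  exact Subgroup.mem_top s'


end H38.SUBundle
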