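import Cfsg.Agent.H38.SUBundle.Orth
import Cfsg.Agent.S5660

/-!
Subfield subgroups of index two in SU_n(q): orthogonal type from dimension 10, symplectic from 8.
-/

set_option autoImplicit false
set_option linter.unusedSectionVars false
open Cfsg Matrix H50
open scoped MatrixGroups

namespace H38.SUBundle

section orth
open H51.StabMax H38.SUBundle.OrthTen
open H38.SpSU (Rt rt_mulVec)

/-- The orthogonal subfield subgroup is maximal in SU_n(q), q odd, n ≥ 10. -/
theorem orth_maximal {F : Type*} [Field F] [Fintype F] {n q : ℕ} (hF : Fintype.card F = q ^ 2) (hn : 10 ≤ n) (hodd : Odd q) (F₀ : Subfield F) (hcard : Fintype.card F = Nat.card F₀ ^ 2) (P : Matrix.GeneralLinearGroup (Fin n) F) (hP : Cfsg.Geo.IsFormRationalStructure (Cfsg.hermForm n F q) F₀ 1 P) : Cfsg.Geo.IsMaximalIn (Cfsg.GU n F q ⊓ Cfsg.Geo.specialLinear (Fin n) F) (Cfsg.Geo.subfieldSubgroup F₀ P ⊓ (Cfsg.GU n F q ⊓ Cfsg.Geo.specialLinear (Fin n) F)) := by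
  have hqodd : ¬ Even q := Nat.not_even_iff_odd.2 hodd
  have htwo : (2 : F) ≠ 0 := fun h => by
    have h2 := ringChar.spec F 2
    have hc : ringChar F = 2 := by
      have hd := h2.1 (by exact_mod_cast h)
      exact ((Nat.dvd_prime Nat.prime_two).1 hd).resolve_left (CharP.ringChar_ne_one)
    have := FiniteField.even_card_iff_char_two.1 hc
    rw [hF, ← Nat.even_iff, Nat.even_pow] at this
    exact hqodd this.1
  obtain ⟨ζ, hζ0, hζ⟩ := exists_trace_zero_ne_zero hF
  have D : Setup n q F₀ P ζ :=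
    { hF := hF
      card₀ := (Nat.pow_left_injective two_ne_zero) (hcard.symm.trans hF)
      hn := hn
      two := htwo
      rat := fun u v => by
        have := hP _ _ (fun i => (u i).2) fun i => (v i).2
        rwa [one_mul] at this
      ne := hζ0
      skew := by linear_combination hζ }
  set H := Cfsg.Geo.subfieldSubgroup F₀ P with hH
  have hrat : ∀ A : SU n F q, (∀ v, Rt F₀ P v → Rt F₀ P (suMat A *ᵥ v)) → suHom n F q A ∈ H := by
    intro A hA
    rw [hH, Cfsg.Agent.S5660.mem_subfield_iff]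
    refine ⟨1, one_ne_zero, fun i j => ?_⟩
    have e : ((P⁻¹ * suHom n F q A * P : GL (Fin n) F) : Matrix (Fin n) (Fin n) F) i j =
        (((P⁻¹ * suHom n F q A * P : GL (Fin n) F) : Matrix (Fin n) (Fin n) F) *ᵥ Pi.single j 1) i := by
      simp
    rw [one_mul, e, Cfsg.Agent.S5660.conj_apply, suHom_val]
    exact hA _ (H38.SpSU.rt_col j) i
  refine ⟨lt_of_le_not_ge inf_le_right fun hle => ?_, fun M hHM hMK => ?_⟩
  · obtain ⟨a, ha, -, han⟩ := D.exists_out ⊥ ⊥ (by simp) (by simp)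
    rw [Submodule.mem_bot] at han
    obtain ⟨b, hb, hab, hbn⟩ := D.exists_out (F₀ ∙ a) (F₀ ∙ a)
      ((finrank_span_singleton_le a).trans (by omega)) ((finrank_span_singleton_le a).trans (by omega))
    have hab' := hab a (Submodule.mem_span_singleton_self a)
    obtain ⟨t, -, ht⟩ := reach_isotropic hF (by omega) (u := ri P a)
      (v := ri P a + ζ • ri P b) (fun h => han (ri_injective (h.trans ri_zero.symm))) ha
      (fun h => han (D.ri_sep h).1)
      (by
        rw [h_add_left, h_add_right hF, h_add_right hF, h_smul_left, h_smul_right hF,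
          h_smul_right hF, h_smul_left, ha, hb, hab', (h_eq_zero_comm hF).1 hab']
        simp)
    obtain ⟨l, r, hr, he⟩ :=
      Cfsg.Agent.S5660.point_of_mem (Subgroup.mem_inf.1 (hle (suHom_mem t))).1 (rt_ri a)
    obtain ⟨s, rfl⟩ := exists_ri_of_rt hr
    rw [suHom_val, ht] at he
    obtain ⟨l1, l2, hl⟩ := D.coords l
    have e : ri P (a - l1 • s) + ζ • ri P (b - l2 • s) = 0 := by
      rw [ri_sub, ri_sub, ri_smul, ri_smul]
      rw [hl] at he
      rw [← sub_eq_zero] at he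
      rw [← he]
      module
    obtain ⟨e1, e2⟩ := D.ri_sep e
    rw [sub_eq_zero] at e1 e2
    rcases eq_or_ne l1 0 with h0 | h0
    · exact han (by rw [e1, h0, zero_smul])
    · exact hbn (Submodule.mem_span_singleton.2
        ⟨l2 / l1, by rw [e1, smul_smul, div_mul_cancel₀ _ h0, ← e2]⟩)
  by_cases hle : M ≤ H
  · exact Or.inl (le_antisymm (le_inf hle hMK) hHM)
  obtain ⟨g, hgM, hgH⟩ := SetLike.not_le_iff_exists.mp hle
  obtain ⟨g', rfl⟩ := exists_suHom_eq (hMK hgM)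
  refine Or.inr (le_antisymm hMK fun s hs => ?_)
  obtain ⟨s', rfl⟩ := exists_suHom_eq hs
  set K := M.comap (suHom n F q) with hKdef
  have hK : ∀ A : SU n F q, (∀ v, Rt F₀ P v → Rt F₀ P (suMat A *ᵥ v)) → A ∈ K :=
    fun A hA => hHM ⟨hrat A hA, suHom_mem A⟩
  show s' ∈ K
  by_cases hmove : ∃ a : Fin n → F₀, Cfsg.hermForm n F q (ri P a) (ri P a) = 0 ∧
      ∀ (l : F) (r : Fin n → F₀), suMat g' *ᵥ ri P a ≠ l • ri P r
  · obtain ⟨a, ha, hbad⟩ := hmove
    rw [D.eq_top_of_moves hK (show g' ∈ K from hgM) ha hbad]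
    exact Subgroup.mem_top s'
  push Not at hmove
  exfalso
  obtain ⟨c, hc0, hc⟩ := D.exists_scalar hmove
  apply hgH
  rw [Cfsg.Agent.S5660.mem_subfield_iff]
  refine ⟨c⁻¹, inv_ne_zero hc0, fun i j => ?_⟩
  obtain ⟨u, hu⟩ := exists_ri_of_rt (H38.SpSU.rt_col (F₀ := F₀) (P := P) j)
  obtain ⟨r, hr⟩ := hc u
  have e : ((P⁻¹ * suHom n F q g' * P : GL (Fin n) F) : Matrix (Fin n) (Fin n) F) i j =
      (((P⁻¹ * suHom n F q g' * P : GL (Fin n) F) : Matrix (Fin n) (Fin n) F) *ᵥ Pi.single j 1) i := by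
    simp
  rw [e, Cfsg.Agent.S5660.conj_apply, suHom_val]
  rw [show (P : Matrix (Fin n) (Fin n) F) *ᵥ Pi.single j 1 = ri P u from hu, hr, Matrix.mulVec_smul,
    Pi.smul_apply, smul_eq_mul, ← mul_assoc, inv_mul_cancel₀ hc0, one_mul]
  exact rt_ri r i


end orth

section symp
open H38 H38.SpSU Cfsg.Agent.S5660
open H51.StabMax (IsCtr suHom suHom_mem suHom_val exists_suHom_eq)

/-- The symplectic subfield subgroup is maximal in SU_n(q), n ≥ 8 even. -/
theorem symp_maximal {F : Type*} [Field F] [Fintype F] {n q : ℕ} (hF : Fintype.card F = q ^ 2) (hn : 8 ≤ n) (F₀ : Subfield F) (hcard : Fintype.card F = Nat.card F₀ ^ 2) (ζ : F) (hζ0 : ζ ≠ 0) (hζ : ζ + ζ ^ q = 0) (P : Matrix.GeneralLinearGroup (Fin n) F) (hP : Cfsg.Geo.IsFormRationalStructure (Cfsg.hermForm n F q) F₀ ζ P) (halt : ∀ u : Fin n → F, (∀ i, u i ∈ F₀) → Cfsg.hermForm n F q (Matrix.mulVec (P : Matrix (Fin n) (Fin n) F) u) (Matrix.mulVec (P : Matrix (Fin n) (Fin n) F) u) = 0) : Cfsg.Geo.IsMaximalIn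 (Cfsg.GU n F q ⊓ Cfsg.Geo.specialLinear (Fin n) F) (Cfsg.Geo.subfieldSubgroup F₀ P ⊓ (Cfsg.GU n F q ⊓ Cfsg.Geo.specialLinear (Fin n) F)) := by
  have halt' : ∀ a : Fin n → F, Rt F₀ P a → Cfsg.hermForm n F q a a = 0 := fun a ha => by
    have := halt _ ha
    rwa [H49.gl_mulVec_inv] at this
  set H := Cfsg.Geo.subfieldSubgroup F₀ P with hH
  have hctr : ∀ v, Rt F₀ P v → IsCtr (H.comap (suHom n F q)) v := by
    intro v hv
    refine ⟨halt' v hv, fun A c hc hA => ?_⟩
    rw [Subgroup.mem_comap, hH, mem_subfield_iff]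
    refine ⟨1, one_ne_zero, fun i j => ?_⟩
    have e : ((P⁻¹ * suHom n F q A * P : GL (Fin n) F) : Matrix (Fin n) (Fin n) F) i j =
        (((P⁻¹ * suHom n F q A * P : GL (Fin n) F) : Matrix (Fin n) (Fin n) F) *ᵥ Pi.single j 1) i := by
      simp
    rw [one_mul, e, conj_apply, suHom_val, hA, ut_mulVec, Matrix.mulVec_add, Matrix.mulVec_smul,
      H49.gl_inv_mulVec, Pi.add_apply, Pi.smul_apply, smul_eq_mul]
    refine add_mem ?_ (mul_mem (SpSU.mul_mem' (P := P) hF hcard halt' (by linear_combination hc)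
      (anti_of_rt hF hcard halt' (rt_col j) hv)) (hv i))
    by_cases h : i = j <;> simp [h]
  obtain ⟨θ, hθ⟩ : ∃ θ : F, θ ∉ F₀ := by
    by_contra hc
    push Not at hc
    have h1 := card_F₀ (P := P) hF hcard halt'
    rw [Nat.card_congr (Equiv.subtypeUnivEquiv hc), Nat.card_eq_fintype_card, hF] at h1
    have := two_le hF
    nlinarith
  -- one non-rational isotropic point
  obtain ⟨i₀⟩ : Nonempty (Fin n) := ⟨⟨0, by omega⟩⟩
  set a₀ := col P i₀ with ha₀
  obtain ⟨b₀, hb₀, hab₀, -, hb₀a, -⟩ := exists_rt_two hF hcard halt' (by omega) a₀ a₀ (P := P)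
  have ha₀0 : a₀ ≠ 0 := fun h => by
    have h2 : (Pi.single i₀ (1 : F) : Fin n → F) = 0 :=
      H49.gl_mulVec_injective P (h.trans (Matrix.mulVec_zero _).symm)
    simpa using congrFun h2 i₀
  have hpr : Pr F₀ P q a₀ b₀ := ⟨rt_col i₀, hb₀, hab₀, hb₀a, ha₀0⟩
  refine ⟨lt_of_le_not_ge inf_le_right fun hle => ?_, fun M hHM hMK => ?_⟩
  · obtain ⟨t, -, ht⟩ := reach_isotropic hF (by omega) ha₀0 (halt' _ (rt_col i₀))
      (v := a₀ + θ • b₀) (fun h => not_point hF hcard halt' hθ hpr rt_zero 0 (by rw [h, zero_smul]))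
      (by
        rw [h_add_left, h_add_right hF, h_add_right hF, h_smul_left, h_smul_right hF,
          h_smul_right hF, h_smul_left, halt' _ (rt_col i₀), halt' _ hb₀, hab₀,
          (h_eq_zero_comm hF).1 hab₀]
        simp)
    obtain ⟨l, r, hr, he⟩ := point_of_mem (Subgroup.mem_inf.1 (hle (suHom_mem t))).1 (rt_col i₀)
    rw [suHom_val, ht] at he
    exact not_point hF hcard halt' hθ hpr hr l he
  by_cases hle : M ≤ H
  · exact Or.inl (le_antisymm (le_inf hle hMK) hHM)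
  obtain ⟨g, hgM, hgH⟩ := SetLike.not_le_iff_exists.mp hle
  obtain ⟨g', rfl⟩ := exists_suHom_eq (hMK hgM)
  refine Or.inr (le_antisymm hMK fun s hs => ?_)
  obtain ⟨s', rfl⟩ := exists_suHom_eq hs
  set K := M.comap (suHom n F q) with hKdef
  have hK : ∀ v, Rt F₀ P v → IsCtr K v := fun v hv =>
    ⟨(hctr v hv).1, fun A c hc hA => hHM ⟨(hctr v hv).2 A c hc hA, suHom_mem A⟩⟩
  obtain ⟨v, hv, -, hbad⟩ : ∃ v, Rt F₀ P v ∧ v ≠ 0 ∧ ∀ (l : F) (r : Fin n → F), Rt F₀ P r →
      (suHom n F q g' : Matrix (Fin n) (Fin n) F) *ᵥ v ≠ l • r := by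
    by_contra hc
    push Not at hc
    exact hgH (mem_of_points (by omega) hc)
  have hgv : IsCtr K (suMat g' *ᵥ v) := H51.StabMax.ctr_group (hK v hv) hgM
  rcases exists_pair hF hcard halt' (P := P) hθ _ hgv.1 with ⟨r, l, hr, he⟩ | ⟨a, b, hab, he⟩
  · exact absurd he (by rw [← suHom_val]; exact hbad l r hr)
  · have htop := eq_top_of_pair hF hcard halt' hK (by omega) hθ hab (he ▸ hgv)
    show s' ∈ K
    rw [htop]
    exact Subgroup.mem_top s'


end symp

end H38.SUBundle
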